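import Cfsg.Agent.Lib.Recog.Profile.SpBits
import Cfsg.Agent.Lib.Geom.Symp
import Cfsg.Agent.Lib.Geom.PSpInvol
import Cfsg.Agent.Lib.Trans3.SpTransvections
import Cfsg.Prelude.Def_Classical

/-!
The permutations of the sixty-four coded vectors preserving sums and the form make up `PSp 3` over two
elements.
-/

set_option autoImplicit false
set_option linter.unusedSectionVars false
set_option maxRecDepth 20000

namespace CfsgLib.Recog.Profile.SpBits

open CfsgLib.Geom

local notation "V6" => (Fin 3 ⊕ Fin 3 → ZMod 2)

/-- The bit of a coordinate. -/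
def pos : Fin 3 ⊕ Fin 3 → ℕ
  | .inl k => 2 * k.val
  | .inr k => 2 * k.val + 1

/-- The vector of a code. -/
def vec (v : Fin 64) : V6 := fun i => if Nat.testBit v.val (pos i) then 1 else 0

/-- The form as a sum over coordinates. -/
def sumForm (u w : V6) : ZMod 2 :=
  ∑ i : Fin 3, (u (Sum.inr i) * w (Sum.inl i) - u (Sum.inl i) * w (Sum.inr i))

theorem vec_facts : (∀ v w u : Fin 64, v.val ^^^ w.val = u.val → vec v + vec w = vec u) ∧
    (∀ v : Fin 64, vec v = 0 → v.val = 0) ∧
    ∀ v w : Fin 64, (sumForm (vec v) (vec w) = 1) ↔ form v.val w.val = true := by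
  refine ⟨fun v w u h => funext fun i => ?_, by decide +kernel, by decide +kernel⟩
  show (if v.val.testBit (pos i) then 1 else 0) + (if w.val.testBit (pos i) then 1 else 0) =
    if u.val.testBit (pos i) then (1 : ZMod 2) else 0
  rw [← h, Nat.testBit_xor]
  cases v.val.testBit (pos i) <;> cases w.val.testBit (pos i) <;> decide

theorem vec_xor {v w u : Fin 64} (h : v.val ^^^ w.val = u.val) : vec v + vec w = vec u := vec_facts.1 v w u h

theorem vec_injective : Function.Injective vec := fun v w h => by
  let u : Fin 64 := ⟨v.val ^^^ w.val, Nat.xor_lt_two_pow (n := 6) v.2 w.2⟩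
  have h0 : vec u = 0 := by
    rw [← vec_xor (u := u) rfl, h]
    funext i
    exact (by decide : ∀ x : ZMod 2, x + x = 0) _
  exact Fin.ext (by simpa [u] using vec_facts.2.1 u h0)

/-- The coordinates. -/
noncomputable def coord : Fin 64 ≃ V6 :=
  Equiv.ofBijective vec ((Fintype.bijective_iff_injective_and_card _).2 ⟨vec_injective, by
    simp [ZMod.card]⟩)

theorem coord_apply (v : Fin 64) : coord v = vec v := rfl

/-- The linear map of an element. -/
noncomputable def linOf (p : Sp) : V6 ≃ₗ[ZMod 2] V6 :=
  ((coord.symm.trans (p : Equiv.Perm (Fin 64))).trans coord).toLinearEquiv (by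
    have hadd : ∀ a b : V6, coord ((p : Equiv.Perm (Fin 64)) (coord.symm (a + b))) =
        coord ((p : Equiv.Perm (Fin 64)) (coord.symm a)) + coord ((p : Equiv.Perm (Fin 64)) (coord.symm b)) := by
      intro a b
      obtain ⟨v, rfl⟩ := coord.surjective a
      obtain ⟨w, rfl⟩ := coord.surjective b
      let u : Fin 64 := ⟨v.val ^^^ w.val, Nat.xor_lt_two_pow (n := 6) v.2 w.2⟩
      rw [coord_apply v, coord_apply w, vec_xor (u := u) rfl, ← coord_apply u, ← coord_apply v, ← coord_apply w]
      simp only [Equiv.symm_apply_apply]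
      rw [coord_apply, coord_apply, coord_apply]
      exact (vec_xor (p.2.1 v w u rfl)).symm
    refine ⟨fun a b => hadd a b, fun c a => ?_⟩
    rcases (by decide : ∀ c : ZMod 2, c = 0 ∨ c = 1) c with rfl | rfl
    · simp only [zero_smul]
      have := hadd 0 0
      rw [add_zero] at this
      exact add_eq_left.1 this.symm
    · simp only [one_smul])

theorem linOf_apply (p : Sp) (v : Fin 64) : linOf p (vec v) = vec ((p : Equiv.Perm (Fin 64)) v) := by
  show coord ((p : Equiv.Perm (Fin 64)) (coord.symm (vec v))) = _
  rw [← coord_apply v, Equiv.symm_apply_apply]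
  rfl

theorem sympBilin_vec (v w : Fin 64) :
    sympBilin 3 (ZMod 2) (vec v) (vec w) = if form v.val w.val then 1 else 0 := by
  rw [sympBilin_apply, sympForm_eq_sum]
  show sumForm (vec v) (vec w) = _
  rcases (by decide : ∀ c : ZMod 2, c = 0 ∨ c = 1) (sumForm (vec v) (vec w)) with e | e
  · have hf : form v.val w.val = false := Bool.eq_false_iff.2 fun h => by
      rw [(vec_facts.2.2 v w).2 h] at e
      exact absurd e (by decide)
    simp [e, hf]
  · rw [e, if_pos ((vec_facts.2.2 v w).1 e)]

/-- The isometries. -/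
noncomputable def toIsoms : Sp →* formIsoms (sympBilin 3 (ZMod 2)) where
  toFun p := ⟨linOf p, fun a b => by
    obtain ⟨v, rfl⟩ := coord.surjective a
    obtain ⟨w, rfl⟩ := coord.surjective b
    simp only [coord_apply, linOf_apply, sympBilin_vec, p.2.2 v w]⟩
  map_one' := Subtype.ext (LinearEquiv.ext fun a => by
    obtain ⟨v, rfl⟩ := coord.surjective a
    rw [coord_apply]
    show linOf 1 (vec v) = vec v
    rw [linOf_apply]; rfl)
  map_mul' p q := Subtype.ext (LinearEquiv.ext fun a => by
    obtain ⟨v, rfl⟩ := coord.surjective a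
    rw [coord_apply]
    show linOf (p * q) (vec v) = linOf p (linOf q (vec v))
    rw [linOf_apply, linOf_apply, linOf_apply]; rfl)

theorem toIsoms_bijective : Function.Bijective toIsoms := by
  constructor
  · intro p q h
    refine Subtype.ext (Equiv.ext fun v => vec_injective ?_)
    rw [← linOf_apply, ← linOf_apply, show linOf p = linOf q from congrArg Subtype.val h]
  · intro g
    let σ : Equiv.Perm (Fin 64) := (coord.trans g.1.toEquiv).trans coord.symm
    have hσ : ∀ v, vec (σ v) = g.1 (vec v) := fun v => by
      rw [← coord_apply]; simp [σ, coord_apply]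
    refine ⟨⟨σ, fun v w u h => ?_, fun v w => ?_⟩, Subtype.ext (LinearEquiv.ext fun a => ?_)⟩
    · let z : Fin 64 := ⟨(σ v).val ^^^ (σ w).val, Nat.xor_lt_two_pow (n := 6) (σ v).2 (σ w).2⟩
      have : vec (σ u) = vec z := by
        rw [← vec_xor (u := z) rfl, hσ, hσ, hσ, ← map_add, vec_xor h]
      exact (congrArg Fin.val (vec_injective this)).symm
    · have h1 := g.2 (vec v) (vec w)
      rw [← hσ, ← hσ, sympBilin_vec, sympBilin_vec] at h1
      revert h1
      cases form (σ v).val (σ w).val <;> cases form v.val w.val <;> simp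
    · obtain ⟨v, rfl⟩ := coord.surjective a
      rw [coord_apply]
      show linOf _ (vec v) = g.1 (vec v)
      rw [linOf_apply]
      exact hσ v

/-- The coded model is `PSp 3` over two elements. -/
theorem sp_iso : Nonempty (Sp ≃* Cfsg.PSp 3 (ZMod 2)) := by
  have hz : Subgroup.center (Matrix.symplecticGroup (Fin 3) (ZMod 2)) = ⊥ := by
    rw [Subgroup.eq_bot_iff_forall]
    intro A hA
    have hA' : ∀ v, spLin A v = v := by
      rcases spLin_center (by norm_num) hA with h | h
      · exact h
      · intro v
        rw [h v]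
        exact funext fun i => (by decide : ∀ x : ZMod 2, -x = x) _
    refine CfsgLib.Trans3.SpTrans.sp_ext fun v => ?_
    have h1 := hA' v
    rw [spLin_apply] at h1
    exact h1.trans (Matrix.one_mulVec v).symm
  exact ⟨((MulEquiv.ofBijective toIsoms toIsoms_bijective).trans (spEquiv 3 (ZMod 2))).trans
    (QuotientGroup.quotientBot.symm.trans (QuotientGroup.quotientMulEquivOfEq hz.symm))⟩

end CfsgLib.Recog.Profile.SpBits
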