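import Mathlib

/-!
Permutations of at most sixteen points packed in natural numbers, and a complete list of the
involutions commuting with a given one.
-/

set_option autoImplicit false
set_option linter.unusedSectionVars false

namespace CfsgLib.Recog.Profile

/-- The `i`-th entry. -/
def entry (x i : ℕ) : ℕ := x / 16 ^ i % 16

/-- The first `m` values of `f`, packed. -/
def pack (f : ℕ → ℕ) : ℕ → ℕ
  | 0 => 0
  | m + 1 => pack f m + f m * 16 ^ m

/-- Composition. -/
def pmul (n x y : ℕ) : ℕ := pack (fun i => entry x (entry y i)) n

/-- The number of fixed points. -/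
def pfix (n x : ℕ) : ℕ := ((List.range n).filter fun i => decide (entry x i = i)).length

theorem pack_lt {f : ℕ → ℕ} (hf : ∀ i, f i < 16) : ∀ m, pack f m < 16 ^ m
  | 0 => by simp [pack]
  | m + 1 => by
    have h1 := pack_lt hf m
    have h2 : f m * 16 ^ m ≤ 15 * 16 ^ m := Nat.mul_le_mul_right _ (by have := hf m; omega)
    rw [pack, pow_succ]
    omega

theorem entry_pack {f : ℕ → ℕ} (hf : ∀ i, f i < 16) : ∀ {m i : ℕ}, i < m → entry (pack f m) i = f i
  | m + 1, i, hi => by
    rcases Nat.lt_or_ge i m with h | h
    · obtain ⟨e, rfl⟩ : ∃ e, m = i + 1 + e := ⟨m - (i + 1), by omega⟩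
      rw [pack, entry, show f (i + 1 + e) * 16 ^ (i + 1 + e) = (f (i + 1 + e) * 16 ^ e * 16) * 16 ^ i by ring,
        Nat.add_mul_div_right _ _ (by positivity), Nat.add_mul_mod_self_right]
      exact entry_pack hf h
    · obtain rfl : i = m := by omega
      rw [pack, entry, Nat.add_mul_div_right _ _ (by positivity), Nat.div_eq_of_lt (pack_lt hf i),
        zero_add, Nat.mod_eq_of_lt (hf i)]

theorem pack_congr {f g : ℕ → ℕ} : ∀ {m : ℕ}, (∀ i < m, f i = g i) → pack f m = pack g m
  | 0, _ => rfl
  | m + 1, h => by rw [pack, pack, pack_congr fun i hi => h i (by omega), h m (by omega)]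

variable {n : ℕ}

/-- The values of a permutation. -/
def valFun (x : Equiv.Perm (Fin n)) (i : ℕ) : ℕ := if h : i < n then (x ⟨i, h⟩ : ℕ) else 0

/-- The code of a permutation. -/
def pcode (x : Equiv.Perm (Fin n)) : ℕ := pack (valFun x) n

theorem valFun_coe (x : Equiv.Perm (Fin n)) (i : Fin n) : valFun x i = x i := by
  rw [valFun, dif_pos i.2]

section

variable (hn : n ≤ 16)
include hn

theorem valFun_lt (x : Equiv.Perm (Fin n)) (i : ℕ) : valFun x i < 16 := by
  unfold valFun
  split_ifs with h
  · have := (x ⟨i, h⟩).2; omega
  · omega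

theorem entry_pcode (x : Equiv.Perm (Fin n)) (i : Fin n) : entry (pcode x) i = x i := by
  rw [pcode, entry_pack (valFun_lt hn x) i.2, valFun_coe]

theorem pcode_inj : Function.Injective (pcode (n := n)) := fun x y h =>
  Equiv.ext fun i => Fin.ext (by rw [← entry_pcode hn x i, h, entry_pcode hn y i])

theorem pcode_mul (x y : Equiv.Perm (Fin n)) : pcode (x * y) = pmul n (pcode x) (pcode y) := by
  refine pack_congr fun i hi => ?_
  rw [show i = ((⟨i, hi⟩ : Fin n) : ℕ) from rfl, valFun_coe, entry_pcode hn, entry_pcode hn]
  rfl

theorem pfix_pcode (x : Equiv.Perm (Fin n)) :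
    pfix n (pcode x) = ((List.finRange n).filter fun i => decide (x i = i)).length := by
  rw [pfix, ← List.map_coe_finRange_eq_range, List.filter_map, List.length_map]
  refine congrArg List.length (List.filter_congr fun i _ => ?_)
  simp only [Function.comp, entry_pcode hn, Fin.ext_iff]

end

/-- The partial map `m` (fifteen = unset) extended by `b ↦ v` and what follows from it. -/
def setMap (n a m b v : ℕ) : ℕ :=
  pack (fun i =>
    if i = b then v % 16 else if i = entry a b then entry a v else
      if i = v then b % 16 else if i = entry a v then entry a b else entry m i) n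

/-- All extensions to the points of `base`. -/
def grow (n a : ℕ) : List ℕ → List ℕ
  | [] => [pack (fun _ => 15) n]
  | b :: bs => (grow n a bs).flatMap fun m =>
      if entry m b = 15 then
        ((List.range n).filter fun v => decide (entry m v = 15)).map fun v => setMap n a m b v
      else [m]

/-- The packed candidates. -/
def candidates (n a : ℕ) (base : List ℕ) (keep : List ℕ) : List ℕ :=
  ((grow n a base).map fun m => pack (entry m) n).filter fun x => decide (pfix n x ∈ keep)

theorem entry_lt (x i : ℕ) : entry x i < 16 := Nat.mod_lt _ (by norm_num)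

/-- The partial map `m` agrees with `f` and its domain is invariant under `f` and `a`. -/
def Agrees (n a : ℕ) (f : ℕ → ℕ) (m : ℕ) : Prop :=
  ∀ i < n, entry m i = 15 ∨ entry m i = f i ∧ entry m (f i) ≠ 15 ∧ entry m (entry a i) ≠ 15

theorem mem_grow (hn : n ≤ 15) {a : ℕ} {f : ℕ → ℕ} (ha : ∀ i < n, entry a i < n)
    (haa : ∀ i < n, entry a (entry a i) = i) (hax : ∀ i < n, f (entry a i) = entry a (f i))
    (hxx : ∀ i < n, f (f i) = i) (hlt : ∀ i < n, f i < n) (bs : List ℕ) (hbs : ∀ b ∈ bs, b < n) :
    ∃ m ∈ grow n a bs, Agrees n a f m ∧ ∀ b ∈ bs, entry m b ≠ 15 := by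
  induction bs with
  | nil =>
    refine ⟨_, List.mem_singleton.2 rfl, fun i hi => Or.inl (entry_pack (fun _ => by norm_num) hi), ?_⟩
    simp
  | cons b bs ih =>
    obtain ⟨m, hm, hag, hset⟩ := ih fun c hc => hbs c (List.mem_cons_of_mem _ hc)
    have hb := hbs b List.mem_cons_self
    by_cases hu : entry m b = 15
    · set g : ℕ → ℕ := fun i =>
        if i = b then f b % 16 else if i = entry a b then entry a (f b) else
          if i = f b then b % 16 else if i = entry a (f b) then entry a b else entry m i
      have hg : ∀ i, g i < 16 := fun i => by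
        simp only [g]; split_ifs <;> first | exact Nat.mod_lt _ (by norm_num) | exact entry_lt _ _
      have hfb : entry m (f b) = 15 := by
        rcases hag (f b) (hlt b hb) with e | ⟨-, e, -⟩
        · exact e
        · rw [hxx b hb] at e; exact absurd hu e
      refine ⟨setMap n a m b (f b), ?_, fun i hi => ?_, fun c hc => ?_⟩
      · rw [grow, List.mem_flatMap]
        refine ⟨m, hm, ?_⟩
        rw [if_pos hu, List.mem_map]
        exact ⟨f b, List.mem_filter.2 ⟨List.mem_range.2 (hlt b hb), by simpa using hfb⟩, rfl⟩
      · have e : ∀ j < n, entry (setMap n a m b (f b)) j = g j := fun j hj => entry_pack hg hj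
        have e1 := haa b hb
        have e2 := haa (f b) (hlt b hb)
        have hmod : ∀ j < n, j % 16 = j := fun j hj => Nat.mod_eq_of_lt (by omega)
        have hfour : i = b ∨ i = entry a b ∨ i = f b ∨ i = entry a (f b) →
            g i = f i ∧ g (f i) ≠ 15 ∧ g (entry a i) ≠ 15 := by
          have hval : ∀ j, j = b ∨ j = entry a b ∨ j = f b ∨ j = entry a (f b) → g j = f j := by
            intro j hj
            simp only [g]
            split_ifs with h1 h2 h3 h4
            · rw [h1, hmod _ (hlt b hb)]
            · rw [h2, hax b hb]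
            · rw [h3, hxx b hb, hmod _ hb]
            · rw [h4, hax _ (hlt b hb), hxx b hb]
            · rcases hj with h | h | h | h <;> contradiction
          have hne : ∀ j, j < n → g j = f j → g j ≠ 15 := fun j hj e => by
            rw [e]; have := hlt j hj; omega
          intro h4
          refine ⟨hval i h4, hne _ (hlt i hi) (hval _ ?_), hne _ (ha i hi) (hval _ ?_)⟩
          · rcases h4 with rfl | rfl | rfl | rfl
            · simp
            · rw [hax b hb]; simp
            · rw [hxx b hb]; simp
            · rw [hax _ (hlt b hb), hxx b hb]; simp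
          · rcases h4 with rfl | rfl | rfl | rfl
            · simp
            · rw [e1]; simp
            · simp
            · rw [e2]; simp
        rw [e i hi, e _ (hlt i hi), e _ (ha i hi)]
        by_cases h4 : i = b ∨ i = entry a b ∨ i = f b ∨ i = entry a (f b)
        · exact Or.inr (hfour h4)
        · push Not at h4
          have hgi : g i = entry m i := by
            simp only [g]; rw [if_neg h4.1, if_neg h4.2.1, if_neg h4.2.2.1, if_neg h4.2.2.2]
          rw [hgi]
          rcases hag i hi with h | ⟨h, h', h''⟩
          · exact Or.inl h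
          · refine Or.inr ⟨h, ?_, ?_⟩
            · simp only [g]; split_ifs with k1 k2 k3 k4
              · have := hlt b hb; omega
              · have := ha _ (hlt b hb); omega
              · omega
              · have := ha b hb; omega
              · exact h'
            · simp only [g]; split_ifs with k1 k2 k3 k4
              · have := hlt b hb; omega
              · have := ha _ (hlt b hb); omega
              · omega
              · have := ha b hb; omega
              · exact h''
      · have hcn := hbs c hc
        rw [show entry (setMap n a m b (f b)) c = g c from entry_pack hg hcn]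
        simp only [g]; split_ifs with k1 k2 k3 k4
        · have := hlt b hb; omega
        · have := ha _ (hlt b hb); omega
        · omega
        · have := ha b hb; omega
        · exact hset c ((List.mem_cons.1 hc).resolve_left k1)
    · refine ⟨m, ?_, hag, fun c hc => ?_⟩
      · rw [grow, List.mem_flatMap]
        exact ⟨m, hm, by rw [if_neg hu]; exact List.mem_singleton.2 rfl⟩
      · rcases List.mem_cons.1 hc with rfl | hc
        · exact hu
        · exact hset c hc

/-- Completeness. -/
theorem mem_candidates (hn : n ≤ 15) {a x : Equiv.Perm (Fin n)} {base keep : List ℕ}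
    (hbase : ∀ i < n, i ∈ base ∨ ∃ b ∈ base, i = entry (pcode a) b) (hlt : ∀ b ∈ base, b < n)
    (haa : a * a = 1) (hax : Commute x a) (hxx : x * x = 1) (hfix : pfix n (pcode x) ∈ keep) :
    pcode x ∈ candidates n (pcode a) base keep := by
  have hn' : n ≤ 16 := by omega
  have h0 : ∀ i : Fin n, valFun x i = x i := valFun_coe x
  have ha : ∀ i < n, entry (pcode a) i < n := fun i hi => by
    rw [show i = ((⟨i, hi⟩ : Fin n) : ℕ) from rfl, entry_pcode hn']; exact (a _).2
  have ha2 : ∀ i < n, entry (pcode a) (entry (pcode a) i) = i := fun i hi => by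
    rw [show i = ((⟨i, hi⟩ : Fin n) : ℕ) from rfl, entry_pcode hn', entry_pcode hn']
    exact congrArg Fin.val (DFunLike.congr_fun haa ⟨i, hi⟩)
  have h1 : ∀ i < n, valFun x (entry (pcode a) i) = entry (pcode a) (valFun x i) := by
    intro i hi
    rw [show i = ((⟨i, hi⟩ : Fin n) : ℕ) from rfl, entry_pcode hn', h0, h0, entry_pcode hn']
    exact congrArg Fin.val (DFunLike.congr_fun hax.eq ⟨i, hi⟩)
  have h2 : ∀ i < n, valFun x (valFun x i) = i := by
    intro i hi
    rw [show i = ((⟨i, hi⟩ : Fin n) : ℕ) from rfl, h0, h0]
    exact congrArg Fin.val (DFunLike.congr_fun hxx ⟨i, hi⟩)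
  have h3 : ∀ i < n, valFun x i < n := fun i hi => by
    rw [show i = ((⟨i, hi⟩ : Fin n) : ℕ) from rfl, h0]; exact (x _).2
  obtain ⟨m, hm, hag, hset⟩ := mem_grow hn ha ha2 h1 h2 h3 base hlt
  have hmx : pack (entry m) n = pcode x := by
    refine pack_congr fun i hi => ?_
    have hne : entry m i ≠ 15 := by
      rcases hbase i hi with h | ⟨b, hb, rfl⟩
      · exact hset i h
      · exact ((hag b (hlt b hb)).resolve_left (hset b hb)).2.2
    exact ((hag i hi).resolve_left hne).1
  rw [candidates, List.mem_filter]
  exact ⟨List.mem_map.2 ⟨m, hm, hmx⟩, by simpa using hfix⟩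

end CfsgLib.Recog.Profile
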