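import Cfsg.Agent.Lib.Recog.Profile.Model
import Cfsg.Agent.Lib.Recog.Profile.Packed

/-!
Charts on alternating groups: the classes of involutions are given by the numbers of fixed points.
-/

set_option autoImplicit false
set_option linter.unusedSectionVars false

namespace CfsgLib.Recog.Profile

open Equiv Equiv.Perm

variable {n : ℕ}

/-- The number of fixed points. -/
def fixedPts (x : Perm (Fin n)) : ℕ := ((List.finRange n).filter fun i => decide (x i = i)).length

theorem fixedPts_add_support (x : Perm (Fin n)) : fixedPts x + x.support.card = n := by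
  have h1 : fixedPts x = (Finset.univ.filter fun i => x i = i).card := by
    rw [fixedPts, ← List.toFinset_card_of_nodup ((List.nodup_finRange n).filter _)]
    exact congrArg Finset.card (by ext i; simp)
  have h2 : x.support = Finset.univ.filter fun i => ¬ x i = i := by ext i; simp
  rw [h1, h2, Finset.card_filter_add_card_filter_not, Finset.card_univ, Fintype.card_fin]

theorem cycleType_of_invol {x : Perm (Fin n)} (hx : x * x = 1) :
    x.cycleType = Multiset.replicate x.cycleType.card 2 := by
  refine Multiset.eq_replicate_card.2 fun k hk => ?_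
  have h1 : k ∣ 2 := (Equiv.Perm.dvd_of_mem_cycleType hk).trans
    (orderOf_dvd_of_pow_eq_one (by rw [pow_two]; exact hx))
  have h2 := Equiv.Perm.two_le_of_mem_cycleType hk
  have h3 := Nat.le_of_dvd (by norm_num) h1
  omega

theorem support_eq_of_invol {x : Perm (Fin n)} (hx : x * x = 1) :
    x.support.card = 2 * x.cycleType.card := by
  rw [← Equiv.Perm.sum_cycleType]
  conv_lhs => rw [cycleType_of_invol hx]
  rw [Multiset.sum_replicate, smul_eq_mul, mul_comm]

/-- Even involutions with the same number of fixed points are conjugate by an even permutation. -/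
theorem exists_even_conj {x y t : Perm (Fin n)} (hx : x * x = 1) (hy : y * y = 1)
    (h : fixedPts x = fixedPts y) (ht : Equiv.Perm.sign t = -1) (htc : Commute t x) :
    ∃ p : alternatingGroup (Fin n), (p : Perm (Fin n)) * x * (p : Perm (Fin n))⁻¹ = y := by
  have hc : x.cycleType = y.cycleType := by
    have h1 := fixedPts_add_support x
    have h2 := fixedPts_add_support y
    rw [support_eq_of_invol hx] at h1
    rw [support_eq_of_invol hy] at h2
    rw [cycleType_of_invol hx, cycleType_of_invol hy, show x.cycleType.card = y.cycleType.card by omega]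
  obtain ⟨g, hg⟩ := isConj_iff.1 (Equiv.Perm.isConj_iff_cycleType_eq.2 hc)
  rcases Int.units_eq_one_or (Equiv.Perm.sign g) with hs | hs
  · exact ⟨⟨g, Equiv.Perm.mem_alternatingGroup.2 hs⟩, hg⟩
  · refine ⟨⟨g * t, Equiv.Perm.mem_alternatingGroup.2 (by rw [map_mul, hs, ht]; rfl)⟩, ?_⟩
    show g * t * x * (g * t)⁻¹ = y
    rw [show g * t * x * (g * t)⁻¹ = g * (t * x * t⁻¹) * g⁻¹ by group, htc.eq, mul_inv_cancel_right, hg]

/-- The possible numbers of fixed points of an even involution. -/
theorem fixedPts_cases {x : Perm (Fin n)} (hs : Equiv.Perm.sign x = 1) (hx : x * x = 1) (h1 : x ≠ 1)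
    (hn : n < 16) :
    fixedPts x + 4 = n ∨ fixedPts x + 8 = n ∨ fixedPts x + 12 = n := by
  have h2 := fixedPts_add_support x
  rw [support_eq_of_invol hx] at h2
  have h3 : x.cycleType.card ≠ 0 := fun e => h1 (by
    rw [← Equiv.Perm.cycleType_eq_zero, ← Multiset.card_eq_zero]; exact e)
  rw [Equiv.Perm.sign_of_cycleType, cycleType_of_invol hx, Multiset.sum_replicate, Multiset.card_replicate,
    smul_eq_mul] at hs
  have h4 : Even x.cycleType.card := by
    by_contra ho
    have h5 : Odd (x.cycleType.card * 2 + x.cycleType.card) := by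
      obtain ⟨m, hm⟩ := Nat.not_even_iff_odd.1 ho
      exact ⟨3 * m + 1, by omega⟩
    rw [h5.neg_one_pow] at hs
    exact absurd hs (by decide)
  obtain ⟨m, hm⟩ := h4
  omega

variable {G : Type*} [Group G] [Finite G]

/-- What has to be known of the alternating subgroup. -/
structure AltData (G : Type*) [Group G] [Finite G] (n : ℕ) (α : G) where
  φ : alternatingGroup (Fin n) →* G
  inj : Function.Injective φ
  a0 : alternatingGroup (Fin n)
  a0_map : φ a0 = α
  a0_invol : a0 * a0 = 1
  a0_ne : a0 ≠ 1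
  a0_odd : ∃ t : Perm (Fin n), Equiv.Perm.sign t = -1 ∧ Commute t (a0 : Perm (Fin n))
  cent : Subgroup.centralizer ({α} : Set G) ≤ φ.range
  sep : ∀ a b : alternatingGroup (Fin n), a * a = 1 → b * b = 1 → IsConj (φ a) (φ b) →
    fixedPts (a : Perm (Fin n)) = fixedPts (b : Perm (Fin n))

namespace AltData

variable {α : G} (D : AltData G n α)
include D

theorem orderOf_alpha : orderOf α = 2 := by
  rw [← D.a0_map, orderOf_injective D.φ D.inj]
  exact CfsgLib.Invol.invol_of_mul_self D.a0_invol D.a0_ne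

theorem cls {a : alternatingGroup (Fin n)} (ha : a * a = 1) :
    fixedPts (a : Perm (Fin n)) = fixedPts (D.a0 : Perm (Fin n)) ↔ IsConj α (D.φ a) := by
  constructor
  · intro h
    obtain ⟨t, ht, htc⟩ := D.a0_odd
    obtain ⟨p, hp⟩ := exists_even_conj (congrArg Subtype.val D.a0_invol) (congrArg Subtype.val ha) h.symm ht htc
    refine isConj_iff.2 ⟨D.φ p, ?_⟩
    calc D.φ p * α * (D.φ p)⁻¹ = D.φ p * D.φ D.a0 * (D.φ p)⁻¹ := by rw [D.a0_map]
      _ = D.φ a := by rw [← map_inv, ← map_mul, ← map_mul]; exact congrArg D.φ (Subtype.ext hp)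
  · intro h
    exact (D.sep D.a0 a D.a0_invol ha (by rw [D.a0_map]; exact h)).symm

theorem frame : Frame G D.φ.range α := by
  refine Frame.of_fusion D.orderOf_alpha D.cent ?_
  rintro _ ⟨a, rfl⟩ hc
  have ho : orderOf (D.φ a) = 2 := by
    rw [CfsgLib.Invol.orderOf_eq_of_isConj hc, D.orderOf_alpha]
  have ha : a * a = 1 := D.inj (by rw [map_mul, CfsgLib.Invol.invol_mul_self ho, map_one])
  obtain ⟨t, ht, htc⟩ := D.a0_odd
  obtain ⟨p, hp⟩ := exists_even_conj (congrArg Subtype.val D.a0_invol) (congrArg Subtype.val ha)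
    ((D.cls ha).2 hc).symm ht htc
  refine ⟨D.φ p, ⟨p, rfl⟩, ?_⟩
  calc D.φ p * α * (D.φ p)⁻¹ = D.φ p * D.φ D.a0 * (D.φ p)⁻¹ := by rw [D.a0_map]
    _ = D.φ a := by rw [← map_inv, ← map_mul, ← map_mul]; exact congrArg D.φ (Subtype.ext hp)

omit D in
theorem fixedPts_eq (hn : n ≤ 15) (a : Perm (Fin n)) : pfix n (pcode a) = fixedPts a :=
  pfix_pcode (by omega) a

/-- The chart; the list is complete by the kernel computation of the candidates. -/
def chart (hn : n ≤ 15) (A0 one : ℕ) (hA0 : pcode (D.a0 : Perm (Fin n)) = A0)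
    (hone : pcode (1 : Perm (Fin n)) = one) (base keep L : List ℕ)
    (hbase : ∀ i < n, i ∈ base ∨ ∃ b ∈ base, i = entry A0 b) (hlt : ∀ b ∈ base, b < n)
    (hkeep : ∀ k, (k + 4 = n ∨ k + 8 = n ∨ k + 12 = n) → k ∈ keep)
    (hL : candidates n A0 base keep = L) : Chart G (alternatingGroup (Fin n)) D.φ.range α where
  φ := D.φ
  inj := D.inj
  range := rfl
  frame := D.frame
  code := fun a => pcode (a : Perm (Fin n))
  code_inj := fun a b h => Subtype.ext (pcode_inj (by omega) h)
  mul := pmul n
  code_mul := fun a b => pcode_mul (by omega) _ _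
  one := one
  code_one := hone
  cl := pfix n
  k0 := fixedPts (D.a0 : Perm (Fin n))
  sep := fun a b ha hb h => by rw [fixedPts_eq hn, fixedPts_eq hn]; exact D.sep a b ha hb h
  cls := fun a ha => by rw [fixedPts_eq hn]; exact D.cls ha
  a0 := D.a0
  a0_map := D.a0_map
  L := L
  complete := fun a ha ha1 hc => by
    rw [← hL, ← hA0]
    exact mem_candidates hn (hA0 ▸ hbase) hlt (congrArg Subtype.val D.a0_invol)
      (congrArg Subtype.val hc.eq) (congrArg Subtype.val ha) (hkeep _ (by
        rw [fixedPts_eq hn]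
        exact fixedPts_cases (Equiv.Perm.mem_alternatingGroup.1 a.2) (congrArg Subtype.val ha)
          (fun e => ha1 (Subtype.ext e)) (by omega)))

end AltData

end CfsgLib.Recog.Profile

namespace CfsgLib.Recog.Profile

open Equiv Equiv.Perm

variable {n : ℕ} {G : Type*} [Group G] [Finite G] {α : G}

/-- A product of two transpositions. -/
def pairEven (x : (Fin n × Fin n) × (Fin n × Fin n)) : alternatingGroup (Fin n) :=
  if h : x.1.1 ≠ x.1.2 ∧ x.2.1 ≠ x.2.2 then
    ⟨Equiv.swap x.1.1 x.1.2 * Equiv.swap x.2.1 x.2.2, Equiv.Perm.mem_alternatingGroup.2 (by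
      rw [map_mul, Equiv.Perm.sign_swap h.1, Equiv.Perm.sign_swap h.2]; rfl)⟩
  else 1

/-- An even permutation from transpositions taken in pairs. -/
def evenOf (l : List ((Fin n × Fin n) × (Fin n × Fin n))) : alternatingGroup (Fin n) :=
  (l.map pairEven).prod

/-- A step with all codes given as literals. -/
theorem Chart.good_of_literals {M : Type*} [Group M] {H : Subgroup G} (X : Chart G M H α)
    (E : List M) (p q : M) (W : List (M × List M)) (A0 P P' Q Q' : ℕ) (Ec : List ℕ)
    (Wc : List (ℕ × ℕ × List ℕ)) (Lc Ld : List ℕ) (hW : ∀ w ∈ W, X.Good w.2)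
    (hA0 : X.code X.a0 = A0) (hP : X.code p = P) (hP' : X.code p⁻¹ = P') (hQ : X.code q = Q)
    (hQ' : X.code q⁻¹ = Q') (hE : E.map X.code = Ec)
    (hWc : (W.map fun w => (X.code w.1, X.code w.1⁻¹, w.2.map X.code)) = Wc)
    (hpair : pairOk X.mul X.one X.cl Ec (X.mul (X.mul P A0) P') (X.mul (X.mul Q A0) Q') = true)
    (hLc : side X.mul X.cl X.k0 X.L Ec P P' A0 = Lc) (hLd : side X.mul X.cl X.k0 X.L Ec Q Q' A0 = Ld)
    (hck : stepOk X.mul X.one X.cl X.k0 Ec (X.mul (X.mul P A0) P') (X.mul (X.mul Q A0) Q') Lc Ld Wc = true) :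
    X.Good E := by
  subst hA0 hP hP' hQ hQ' hE hWc
  refine X.good_of_check E p q Lc Ld W hW ?_ hLc hLd ?_
  · rw [X.code_mul, X.code_mul, X.code_mul, X.code_mul]; exact hpair
  · rw [X.code_mul, X.code_mul, X.code_mul, X.code_mul]; exact hck

end CfsgLib.Recog.Profile
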