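import Cfsg.Agent.Lib.Recog.Profile.Model

/-!
Completeness of a list of involutions by counting.
-/

set_option autoImplicit false
set_option linter.unusedSectionVars false

namespace CfsgLib.Recog.Profile

universe u v w

/-- Distinct codes of members of a set that injects into a list of the same length exhaust it. -/
theorem complete_of_count {M : Type v} [Group M] {B : Type w} [DecidableEq B] (code : M → ℕ)
    (hcode : Function.Injective code) (P : M → Prop) (τ : M → B) (known : List B)
    (hτ : ∀ a, P a → τ a ∈ known) (hinj : ∀ a b, P a → P b → τ a = τ b → a = b)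
    (L : List M) (hL : ∀ a ∈ L, P a) (hnd : (L.map code).Nodup) (hlen : known.length ≤ L.length) :
    ∀ a, P a → code a ∈ L.map code := by
  classical
  intro a ha
  by_contra hno
  have hnd' : ((a :: L).map code).Nodup := by
    rw [List.map_cons, List.nodup_cons]; exact ⟨hno, hnd⟩
  have hP : ∀ b ∈ a :: L, P b := List.forall_mem_cons.2 ⟨ha, hL⟩
  have hτnd : ((a :: L).map τ).Nodup :=
    (List.Nodup.of_map code hnd').map_on fun x hx y hy e => hinj x y (hP x hx) (hP y hy) e
  have h1 := (List.subperm_of_subset hτnd (l₂ := known) fun x hx => by
    obtain ⟨b, hb, rfl⟩ := List.mem_map.1 hx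
    exact hτ b (hP b hb)).length_le
  simp only [List.length_map, List.length_cons] at h1
  omega

end CfsgLib.Recog.Profile
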