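import Cfsg.Agent.Lib.Invol.Basic

/-!
Closing a subgroup `H` that controls the fusion of a class of involutions `α^G` and contains their
centralizers: centralizers of commuting involutions of `H` lie in `H`, by comparing the classes
(profiles) of products along a dihedral group.
-/

set_option autoImplicit false
set_option linter.unusedSectionVars false

namespace CfsgLib.Recog.Profile

open CfsgLib.Invol

universe u

variable {G : Type u} [Group G] [Finite G]

/-- The two reflection classes of a dihedral group with central involution `j`. -/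
theorem half_cases {d v : G} (hd : orderOf d = 2) (hv : orderOf v = 2) (k : ℕ) :
    (∃ a b : ℤ, (d * v) ^ a * d * ((d * v) ^ a)⁻¹ = (d * v) ^ k * d ∧
      (d * v) ^ b * v * ((d * v) ^ b)⁻¹ = (d * v) ^ k * v) ∨
    (∃ a b : ℤ, (d * v) ^ a * v * ((d * v) ^ a)⁻¹ = (d * v) ^ k * d ∧
      (d * v) ^ b * d * ((d * v) ^ b)⁻¹ = (d * v) ^ k * v) := by
  have hl := zpow_conj_left hd hv
  have hvd : ∀ m : ℤ, (d * v) ^ m * v = (d * v) ^ (m - 1) * d := by
    intro m
    rw [show m - 1 = m + (-1 : ℤ) by ring, zpow_add, mul_assoc, right_eq hd hv]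
  have hr : ∀ i : ℤ, (d * v) ^ i * v * ((d * v) ^ i)⁻¹ = (d * v) ^ (2 * i - 1) * d := by
    intro i
    have hh := hl i
    calc (d * v) ^ i * v * ((d * v) ^ i)⁻¹
        = (d * v) ^ (i - 1) * d * ((d * v) ^ i)⁻¹ := by rw [hvd]
      _ = (d * v) ^ (-1 : ℤ) * ((d * v) ^ i * d * ((d * v) ^ i)⁻¹) := by
          rw [show i - 1 = -1 + i by ring, zpow_add]; group
      _ = (d * v) ^ (2 * i - 1) * d := by
          rw [hh, ← mul_assoc, ← zpow_add, show (-1 : ℤ) + 2 * i = 2 * i - 1 by ring]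
  rcases Nat.even_or_odd k with ⟨m, rfl⟩ | ⟨m, rfl⟩
  · refine Or.inl ⟨m, m, ?_, ?_⟩
    · rw [hl, ← zpow_natCast, show ((m + m : ℕ) : ℤ) = 2 * m by push_cast; ring]
    · rw [hr, ← zpow_natCast (d * v) (m + m), hvd, show ((m + m : ℕ) : ℤ) - 1 = 2 * m - 1 by push_cast; ring]
  · refine Or.inr ⟨m + 1, m, ?_, ?_⟩
    · rw [hr, ← zpow_natCast, show ((2 * m + 1 : ℕ) : ℤ) = 2 * ((m : ℤ) + 1) - 1 by push_cast; ring]
    · rw [hl, ← zpow_natCast (d * v) (2 * m + 1), hvd, show ((2 * m + 1 : ℕ) : ℤ) - 1 = 2 * m by push_cast; ring]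

/-- `H` contains the centralizers of the members of the class of `α` it contains, and controls it. -/
structure Frame (G : Type u) [Group G] (H : Subgroup G) (α : G) : Prop where
  invol : orderOf α = 2
  mem : α ∈ H
  control : ∀ x ∈ H, IsConj α x → ∀ g : G, g * x * g⁻¹ ∈ H → g ∈ H

variable {H : Subgroup G} {α : G}

/-- From the centralizer of `α` and the fusion in `H`. -/
theorem Frame.of_fusion (hα : orderOf α = 2) (hC : Subgroup.centralizer ({α} : Set G) ≤ H)
    (hf : ∀ x ∈ H, IsConj α x → ∃ h ∈ H, h * α * h⁻¹ = x) : Frame G H α := by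
  have hm : α ∈ H := hC (Subgroup.mem_centralizer_singleton_iff.2 rfl)
  refine ⟨hα, hm, fun x hx hcx g hg => ?_⟩
  obtain ⟨a, ha, rfl⟩ := hf x hx hcx
  obtain ⟨b, hb, e⟩ := hf _ hg (hcx.trans (isConj_iff.2 ⟨g, rfl⟩))
  have h1 : b⁻¹ * g * a ∈ H := hC (Subgroup.mem_centralizer_singleton_iff.2 (by
    calc b⁻¹ * g * a * α = b⁻¹ * (g * (a * α * a⁻¹) * g⁻¹) * g * a := by group
      _ = α * (b⁻¹ * g * a) := by rw [← e]; group))
  have := mul_mem (mul_mem hb h1) (inv_mem ha)
  simpa [mul_assoc] using this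

/-- Commuting elements of the class are centralized inside `H`. -/
theorem Frame.mem_of_commute (F : Frame G H α) {x g : G} (hx : x ∈ H) (hc : IsConj α x)
    (hg : Commute g x) : g ∈ H :=
  F.control x hx hc g (by rwa [hg.eq, mul_inv_cancel_right])

theorem Frame.cent_le (F : Frame G H α) {E : Set G} {x : G} (hxE : x ∈ E) (hx : x ∈ H)
    (hc : IsConj α x) : Subgroup.centralizer E ≤ H := fun _ hg =>
  F.mem_of_commute hx hc (Subgroup.mem_centralizer_iff.1 hg x hxE).symm

/-- The recursion: two members of the class with different profiles on `E`. -/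
theorem Frame.step (F : Frame G H α) (E : Set G) {c d : G} (hc : c ∈ H) (hcα : IsConj α c)
    (hd : d ∈ H) (hdα : IsConj α d) (hcE : ∀ e ∈ E, Commute c e) (hdE : ∀ e ∈ E, Commute d e)
    (hne : ∃ e ∈ E, ¬ IsConj (c * e) (d * e))
    (hj : ∀ j ∈ H, orderOf j = 2 → Commute j d → (∀ e ∈ E, Commute j e) → ¬ IsConj α j →
      IsConj α (j * d) →
      ((∀ e ∈ E, IsConj (j * d * e) (d * e)) ∨ ∀ e ∈ E, IsConj (j * d * e) (c * e)) →
      Subgroup.centralizer (insert j E) ≤ H ∨
      ∀ j' ∈ H, orderOf j' = 2 → Commute j' c → (∀ e ∈ E, Commute j' e) → IsConj j j' →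
        IsConj α (j' * c) → (∀ e ∈ E, IsConj (j * e) (j' * e)) →
        ¬ ((∀ e ∈ E, IsConj (j * d * e) (d * e) ∧ IsConj (j' * c * e) (c * e)) ∨
          ∀ e ∈ E, IsConj (j * d * e) (c * e) ∧ IsConj (j' * c * e) (d * e))) :
    Subgroup.centralizer E ≤ H := by
  intro g hg
  have hgE : ∀ e ∈ E, Commute g e := fun e he => (Subgroup.mem_centralizer_iff.1 hg e he).symm
  set v := g * c * g⁻¹ with hv
  suffices hvH : v ∈ H from F.control c hc hcα g hvH
  have hcv : IsConj c v := isConj_iff.2 ⟨g, rfl⟩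
  have hvE : ∀ e ∈ E, Commute v e := fun e he =>
    ((hgE e he).mul_left (hcE e he)).mul_left (hgE e he).inv_left
  have hve : ∀ e ∈ E, IsConj (c * e) (v * e) := by
    intro e he
    refine isConj_iff.2 ⟨g, ?_⟩
    calc g * (c * e) * g⁻¹ = v * (g * e * g⁻¹) := by rw [hv]; group
      _ = v * e := by rw [(hgE e he).eq, mul_inv_cancel_right]
  have hdo : orderOf d = 2 := by rw [orderOf_eq_of_isConj hdα, F.invol]
  have hco : orderOf c = 2 := by rw [orderOf_eq_of_isConj hcα, F.invol]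
  have hvo : orderOf v = 2 := by rw [hv, orderOf_conj_eq, hco]
  have hpow : ∀ (i : ℤ) (x y : G), (d * v) ^ i * x * ((d * v) ^ i)⁻¹ = y →
      IsConj x y ∧ ∀ e ∈ E, IsConj (x * e) (y * e) := by
    intro i x y hxy
    refine ⟨isConj_iff.2 ⟨_, hxy⟩, fun e he => isConj_iff.2 ⟨(d * v) ^ i, ?_⟩⟩
    have hce : Commute ((d * v) ^ i) e := ((hdE e he).mul_left (hvE e he)).zpow_left i
    calc (d * v) ^ i * (x * e) * ((d * v) ^ i)⁻¹
        = ((d * v) ^ i * x * ((d * v) ^ i)⁻¹) * ((d * v) ^ i * e * ((d * v) ^ i)⁻¹) := by group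
      _ = y * e := by rw [hxy, hce.eq, mul_inv_cancel_right]
  have heven : Even (orderOf (d * v)) := by
    by_contra ho
    obtain ⟨z, hz, hze⟩ := exists_conj_of_odd hdo hvo (Nat.not_even_iff_odd.1 ho)
    obtain ⟨i, rfl⟩ := Subgroup.mem_zpowers_iff.1 hz
    obtain ⟨e, he, hne⟩ := hne
    exact hne ((hve e he).trans ((hpow i _ _ hze).2 e he).symm)
  set k := orderOf (d * v) / 2
  set j := (d * v) ^ k with hjdef
  have hjo : orderOf j = 2 := orderOf_pow_half heven
  have hjd : Commute j d := commute_pow_half_left hdo hvo heven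
  have hjv : Commute j v := commute_pow_half_right hdo hvo heven
  have hjE : ∀ e ∈ E, Commute j e := fun e he => ((hdE e he).mul_left (hvE e he)).pow_left k
  have hjH : j ∈ H := F.mem_of_commute hd hdα hjd
  by_cases hjα : IsConj α j
  · exact F.mem_of_commute hjH hjα hjv.symm
  -- the two possible profiles
  obtain ⟨hjdK, hjvK, hprof⟩ : IsConj α (j * d) ∧ IsConj α (j * v) ∧
      ((∀ e ∈ E, IsConj (j * d * e) (d * e) ∧ IsConj (j * v * e) (c * e)) ∨
        ∀ e ∈ E, IsConj (j * d * e) (c * e) ∧ IsConj (j * v * e) (d * e)) := by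
    rcases half_cases hdo hvo k with ⟨a, b, ha, hb⟩ | ⟨a, b, ha, hb⟩
    · exact ⟨hdα.trans (hpow a _ _ ha).1, (hcα.trans hcv).trans (hpow b _ _ hb).1, Or.inl fun e he =>
        ⟨((hpow a _ _ ha).2 e he).symm, ((hve e he).trans ((hpow b _ _ hb).2 e he)).symm⟩⟩
    · exact ⟨(hcα.trans hcv).trans (hpow a _ _ ha).1, hdα.trans (hpow b _ _ hb).1, Or.inr fun e he =>
        ⟨((hve e he).trans ((hpow a _ _ ha).2 e he)).symm, ((hpow b _ _ hb).2 e he).symm⟩⟩
  have hor : (∀ e ∈ E, IsConj (j * d * e) (d * e)) ∨ ∀ e ∈ E, IsConj (j * d * e) (c * e) :=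
    hprof.imp (fun h e he => (h e he).1) (fun h e he => (h e he).1)
  rcases hj j hjH hjo hjd hjE hjα hjdK hor with hle | hno
  · refine hle (Subgroup.mem_centralizer_iff.2 ?_)
    rintro x (rfl | hx)
    · exact hjv.eq
    · exact (hvE x hx).symm.eq
  exfalso
  have hconj : ∀ x : G, IsConj (g⁻¹ * x * g) x := fun x => isConj_iff.2 ⟨g, by group⟩
  have hc' : g⁻¹ * v * g = c := by rw [hv]; group
  have hcomm : Commute (g⁻¹ * j * g) c := by
    have h1 := hjv.map (MulAut.conj g⁻¹).toMonoidHom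
    simpa [hv, mul_assoc] using h1
  have hge : ∀ e ∈ E, g⁻¹ * e * g = e := fun e he => by
    rw [(hgE e he).inv_left.eq, inv_mul_cancel_right]
  have hmulc : g⁻¹ * j * g * c = g⁻¹ * (j * v) * g := by rw [hv]; group
  refine hno (g⁻¹ * j * g) (F.mem_of_commute hc hcα hcomm) (by rw [orderOf_conj_inv_eq, hjo]) hcomm
    (fun e he => ((hgE e he).inv_left.mul_left (hjE e he)).mul_left (hgE e he)) (hconj j).symm
    (hmulc ▸ hjvK.trans (hconj _).symm) (fun e he => ?_) ?_
  · refine (isConj_iff.2 ⟨g⁻¹, ?_⟩ : IsConj (j * e) (g⁻¹ * j * g * e))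
    calc g⁻¹ * (j * e) * g⁻¹⁻¹ = g⁻¹ * j * g * (g⁻¹ * e * g) := by group
      _ = g⁻¹ * j * g * e := by rw [hge e he]
  · have he' : ∀ e ∈ E, IsConj (g⁻¹ * j * g * c * e) (j * v * e) := fun e he => by
      refine isConj_iff.2 ⟨g, ?_⟩
      calc g * (g⁻¹ * j * g * c * e) * g⁻¹ = j * v * (g * e * g⁻¹) := by rw [hv]; group
        _ = j * v * e := by rw [(hgE e he).eq, mul_inv_cancel_right]
    exact hprof.imp (fun h e he => ⟨(h e he).1, (he' e he).trans (h e he).2⟩)
      (fun h e he => ⟨(h e he).1, (he' e he).trans (h e he).2⟩)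

/-- All centralizers of involutions of `H` inside, two classes: `H` is everything. -/
theorem Frame.eq_top (F : Frame G H α) {w : G} (hw : orderOf w = 2) (hwH : w ∈ H)
    (hwα : ¬ IsConj α w) (hall : ∀ u ∈ H, orderOf u = 2 → Subgroup.centralizer ({u} : Set G) ≤ H) :
    H = ⊤ := by
  have hinv : ∀ u : G, orderOf u = 2 → u ∈ H := by
    intro u hu
    obtain ⟨s, hsH, hs, hne⟩ : ∃ s, s ∈ H ∧ orderOf s = 2 ∧ ¬ IsConj s u := by
      by_cases h1 : IsConj α u
      · exact ⟨w, hwH, hw, fun h2 => hwα (h1.trans h2.symm)⟩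
      · exact ⟨α, F.mem, F.invol, h1⟩
    obtain ⟨z, hz, hzs, hzu⟩ := exists_commute_both hs hu (even_of_not_isConj hs hu hne)
    have hzH := hall s hsH hs (Subgroup.mem_centralizer_singleton_iff.2 hzs.eq)
    exact hall z hzH hz (Subgroup.mem_centralizer_singleton_iff.2 hzu.symm.eq)
  refine (Subgroup.eq_top_iff' H).2 fun g => ?_
  exact F.control α F.mem (IsConj.refl α) g (hinv _ (by rw [orderOf_conj_eq, F.invol]))

end CfsgLib.Recog.Profile
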