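import Cfsg.Agent.Lib.Recog.Profile.Engine

/-!
Certificates for the closing engine in a model: elements are coded by natural numbers and the
hypotheses of a step are checked on lists of codes of involutions centralizing one member of the class.
-/

set_option autoImplicit false
set_option linter.unusedSectionVars false

namespace CfsgLib.Recog.Profile

open CfsgLib.Invol

universe u v

section Check

variable (mul : ℕ → ℕ → ℕ) (one : ℕ) (cl : ℕ → ℕ) (k0 : ℕ)

/-- The classes of the products with the elements of `E`. -/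
def prof (E : List ℕ) (x : ℕ) : List ℕ := E.map fun e => cl (mul x e)

/-- All products of sublists. -/
def span : List ℕ → List ℕ
  | [] => [one]
  | e :: E => span E ++ (span E).map (mul e)

/-- The involutions centralizing `p a p'` (`p'` inverse to `p`) that may occur as `j`. -/
def side (L E : List ℕ) (p p' a : ℕ) : List ℕ :=
  (L.map fun x => mul (mul p x) p').filter fun j =>
    decide (cl j ≠ k0) && (decide (cl (mul j (mul (mul p a) p')) = k0) &&
      E.all fun e => decide (mul j e = mul e j))

/-- A witness is a conjugator, its inverse, and a list of elements with centralizer known inside. -/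
def resolved (E : List ℕ) (W : List (ℕ × ℕ × List ℕ)) (j : ℕ) : Bool :=
  (span mul one (j :: E)).any (fun x => decide (cl x = k0)) ||
    W.any fun w => w.2.2.all fun f => decide (mul (mul w.1 f) w.2.1 ∈ span mul one (j :: E))

/-- Some element on the side of `c` has a profile compatible with `j`. -/
def matched (E Lc : List ℕ) (c d j : ℕ) : Bool :=
  Lc.any fun j' => decide (cl j' = cl j) && (decide (prof mul cl E j' = prof mul cl E j) &&
    ((decide (prof mul cl E (mul j d) = prof mul cl E d) && decide (prof mul cl E (mul j' c) = prof mul cl E c)) ||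
      (decide (prof mul cl E (mul j d) = prof mul cl E c) && decide (prof mul cl E (mul j' c) = prof mul cl E d))))

/-- The two members of the class. -/
def pairOk (E : List ℕ) (c d : ℕ) : Bool :=
  decide (prof mul cl E c ≠ prof mul cl E d) &&
    E.all fun e => decide (mul c e = mul e c) && (decide (mul d e = mul e d) &&
      (decide (mul e e = one) && E.all fun f => decide (mul e f = mul f e)))

/-- The check of a step on the two lists. -/
def stepOk (E : List ℕ) (c d : ℕ) (Lc Ld : List ℕ) (W : List (ℕ × ℕ × List ℕ)) : Bool :=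
  Ld.all fun j => resolved mul one cl k0 E W j || !matched mul cl E Lc c d j

end Check

variable {G : Type u} [Group G] [Finite G]

/-- A subgroup presented on a coded model, with a function separating the classes of involutions. -/
structure Chart (G : Type u) [Group G] [Finite G] (M : Type v) [Group M] (H : Subgroup G) (α : G) where
  φ : M →* G
  inj : Function.Injective φ
  range : φ.range = H
  frame : Frame G H α
  code : M → ℕ
  code_inj : Function.Injective code
  mul : ℕ → ℕ → ℕ
  code_mul : ∀ a b : M, code (a * b) = mul (code a) (code b)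
  one : ℕ
  code_one : code 1 = one
  cl : ℕ → ℕ
  k0 : ℕ
  sep : ∀ a b : M, a * a = 1 → b * b = 1 → IsConj (φ a) (φ b) → cl (code a) = cl (code b)
  cls : ∀ a : M, a * a = 1 → (cl (code a) = k0 ↔ IsConj α (φ a))
  a0 : M
  a0_map : φ a0 = α
  L : List ℕ
  complete : ∀ a : M, a * a = 1 → a ≠ 1 → Commute a a0 → code a ∈ L

namespace Chart

variable {M : Type v} [Group M] {H : Subgroup G} {α : G} (X : Chart G M H α)

/-- The centralizer of the images of the elements of `E` is inside `H`. -/
def Good (E : List M) : Prop :=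
  ∀ g : G, (∀ e ∈ E, Commute g (X.φ e)) → g ∈ H

theorem commute_iff {a b : M} : Commute (X.φ a) (X.φ b) ↔ Commute a b :=
  ⟨fun h => X.inj (by rw [map_mul, map_mul]; exact h.eq), fun h => h.map X.φ⟩

theorem mul_self_a0 : X.a0 * X.a0 = 1 :=
  X.inj (by rw [map_mul, X.a0_map, invol_mul_self X.frame.invol, map_one])

theorem mem (a : M) : X.φ a ∈ H := X.range.le ⟨a, rfl⟩

theorem exists_pre {g : G} (hg : g ∈ H) : ∃ a : M, X.φ a = g := X.range.ge hg

theorem mul_self {a : M} (h : orderOf (X.φ a) = 2) : a * a = 1 :=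
  X.inj (by rw [map_mul, invol_mul_self h, map_one])

theorem code_eq_one {a : M} (h : X.code a = X.one) : a = 1 := X.code_inj (h.trans X.code_one.symm)

theorem commute_of_code {a b : M} (h : X.mul (X.code a) (X.code b) = X.mul (X.code b) (X.code a)) :
    Commute a b := X.code_inj (by rw [X.code_mul, X.code_mul]; exact h)

theorem mem_span (E : List M) : ∀ x ∈ span X.mul X.one (E.map X.code), ∃ a : M, X.code a = x ∧
    (∀ g : G, (∀ e ∈ E, Commute g (X.φ e)) → Commute g (X.φ a)) ∧
    ∀ b : M, (∀ e ∈ E, Commute b e) → Commute b a := by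
  induction E with
  | nil =>
    intro x hx
    rw [List.map_nil, span, List.mem_singleton] at hx
    exact ⟨1, by rw [X.code_one, hx], fun g _ => by rw [map_one]; exact Commute.one_right g,
      fun b _ => Commute.one_right b⟩
  | cons e E ih =>
    intro x hx
    rw [List.map_cons, span, List.mem_append, List.mem_map] at hx
    rcases hx with hx | ⟨y, hy, rfl⟩
    · obtain ⟨a, ha, h1, h2⟩ := ih x hx
      exact ⟨a, ha, fun g hg => h1 g fun f hf => hg f (List.mem_cons_of_mem _ hf),
        fun b hb => h2 b fun f hf => hb f (List.mem_cons_of_mem _ hf)⟩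
    · obtain ⟨a, rfl, h1, h2⟩ := ih y hy
      refine ⟨e * a, X.code_mul e a, fun g hg => ?_, fun b hb => ?_⟩
      · rw [map_mul]
        exact (hg e List.mem_cons_self).mul_right (h1 g fun f hf => hg f (List.mem_cons_of_mem _ hf))
      · exact (hb e List.mem_cons_self).mul_right (h2 b fun f hf => hb f (List.mem_cons_of_mem _ hf))

theorem span_sq (E : List M) (hsq : ∀ e ∈ E, e * e = 1) (hc : ∀ e ∈ E, ∀ f ∈ E, Commute e f) :
    ∀ x ∈ span X.mul X.one (E.map X.code), ∃ a : M, X.code a = x ∧ a * a = 1 ∧
      (∀ g : G, (∀ e ∈ E, Commute g (X.φ e)) → Commute g (X.φ a)) := by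
  induction E with
  | nil =>
    intro x hx
    rw [List.map_nil, span, List.mem_singleton] at hx
    exact ⟨1, by rw [X.code_one, hx], one_mul 1, fun g _ => by rw [map_one]; exact Commute.one_right g⟩
  | cons e E ih =>
    have ih' := ih (fun f hf => hsq f (List.mem_cons_of_mem _ hf))
      (fun f hf f' hf' => hc f (List.mem_cons_of_mem _ hf) f' (List.mem_cons_of_mem _ hf'))
    intro x hx
    rw [List.map_cons, span, List.mem_append, List.mem_map] at hx
    rcases hx with hx | ⟨y, hy, rfl⟩
    · obtain ⟨a, ha, h1, h2⟩ := ih' x hx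
      exact ⟨a, ha, h1, fun g hg => h2 g fun f hf => hg f (List.mem_cons_of_mem _ hf)⟩
    · obtain ⟨a, ha, h1, h2⟩ := ih' y hy
      obtain ⟨a', ha', -, hb⟩ := X.mem_span E y hy
      obtain rfl : a' = a := X.code_inj (ha'.trans ha.symm)
      have hea : Commute e a' := hb e fun f hf => hc e List.mem_cons_self f (List.mem_cons_of_mem _ hf)
      refine ⟨e * a', by rw [X.code_mul, ha], ?_, fun g hg => ?_⟩
      · rw [mul_assoc, ← mul_assoc a' e, ← hea.eq, mul_assoc e a', h1, mul_one, hsq e List.mem_cons_self]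
      · rw [map_mul]
        exact (hg e List.mem_cons_self).mul_right (h2 g fun f hf => hg f (List.mem_cons_of_mem _ hf))

/-- A member of the class from the model. -/
theorem conj_a0 (p : M) : IsConj α (X.φ (p * X.a0 * p⁻¹)) :=
  isConj_iff.2 ⟨X.φ p, by rw [map_mul, map_mul, map_inv, X.a0_map]⟩

theorem mem_side {E : List M} (p : M) {j : M} (hj2 : j * j = 1) (hj1 : j ≠ 1)
    (hjc : Commute j (p * X.a0 * p⁻¹)) (hjE : ∀ e ∈ E, Commute j e)
    (hjk : X.cl (X.code j) ≠ X.k0) (hjck : X.cl (X.code (j * (p * X.a0 * p⁻¹))) = X.k0) :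
    X.code j ∈ side X.mul X.cl X.k0 X.L (E.map X.code) (X.code p) (X.code p⁻¹) (X.code X.a0) := by
  rw [side, List.mem_filter, List.mem_map]
  refine ⟨⟨_, X.complete (p⁻¹ * j * p) ?_ ?_ ?_, ?_⟩, ?_⟩
  · rw [show p⁻¹ * j * p * (p⁻¹ * j * p) = p⁻¹ * (j * j) * p by group, hj2, mul_one, inv_mul_cancel]
  · intro e
    exact hj1 (by rw [show j = p * (p⁻¹ * j * p) * p⁻¹ by group, e, mul_one, mul_inv_cancel])
  · have h1 := hjc.map (MulAut.conj p⁻¹).toMonoidHom
    simpa [mul_assoc] using h1
  · rw [← X.code_mul, ← X.code_mul]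
    congr 1
    group
  · simp only [Bool.and_eq_true, decide_eq_true_eq, List.all_eq_true, List.mem_map]
    refine ⟨hjk, ?_, ?_⟩
    · rw [← X.code_mul, ← X.code_mul, ← X.code_mul]; exact hjck
    · rintro _ ⟨e, he, rfl⟩
      rw [← X.code_mul, ← X.code_mul, (hjE e he).eq]

/-- One step checked in the model. -/
theorem good_of_check (E : List M) (p q : M) (Lc Ld : List ℕ) (W : List (M × List M))
    (hW : ∀ w ∈ W, X.Good w.2)
    (hpair : pairOk X.mul X.one X.cl (E.map X.code) (X.code (p * X.a0 * p⁻¹)) (X.code (q * X.a0 * q⁻¹)) = true)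
    (hLc : side X.mul X.cl X.k0 X.L (E.map X.code) (X.code p) (X.code p⁻¹) (X.code X.a0) = Lc)
    (hLd : side X.mul X.cl X.k0 X.L (E.map X.code) (X.code q) (X.code q⁻¹) (X.code X.a0) = Ld)
    (hck : stepOk X.mul X.one X.cl X.k0 (E.map X.code) (X.code (p * X.a0 * p⁻¹)) (X.code (q * X.a0 * q⁻¹))
      Lc Ld (W.map fun w => (X.code w.1, X.code w.1⁻¹, w.2.map X.code)) = true) :
    X.Good E := by
  rw [pairOk] at hpair
  simp only [Bool.and_eq_true, List.all_eq_true, decide_eq_true_eq] at hpair
  obtain ⟨hne, hall⟩ := hpair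
  rw [stepOk] at hck
  simp only [List.all_eq_true, Bool.or_eq_true, Bool.not_eq_true'] at hck
  set c : M := p * X.a0 * p⁻¹ with hc
  set d : M := q * X.a0 * q⁻¹ with hd
  have hsq : ∀ e ∈ E, e * e = 1 := fun e he =>
    X.code_eq_one (by rw [X.code_mul]; exact (hall _ (List.mem_map_of_mem he)).2.2.1)
  have hcomm : ∀ e ∈ E, ∀ f ∈ E, Commute e f := fun e he f hf =>
    X.commute_of_code ((hall _ (List.mem_map_of_mem he)).2.2.2 _ (List.mem_map_of_mem hf))
  have hcE : ∀ e ∈ E, Commute c e := fun e he => X.commute_of_code (hall _ (List.mem_map_of_mem he)).1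
  have hdE : ∀ e ∈ E, Commute d e := fun e he => X.commute_of_code (hall _ (List.mem_map_of_mem he)).2.1
  have hcl : ∀ a b : M, a ∈ E → Commute b a → b * b = 1 → b * a * (b * a) = 1 := by
    intro a b ha hab hb
    rw [mul_assoc, ← mul_assoc a b, ← hab.eq, mul_assoc b a, hsq a ha, mul_one, hb]
  have hsqc : ∀ P : M, P * X.a0 * P⁻¹ * (P * X.a0 * P⁻¹) = 1 := fun P => by
    rw [show P * X.a0 * P⁻¹ * (P * X.a0 * P⁻¹) = P * (X.a0 * X.a0) * P⁻¹ by group, X.mul_self_a0,
      mul_one, mul_inv_cancel]
  have hc2 : c * c = 1 := hsqc p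
  have hd2 : d * d = 1 := hsqc q
  have hprof : ∀ a b : M, a * a = 1 → b * b = 1 → (∀ e ∈ E, Commute a e) → (∀ e ∈ E, Commute b e) →
      (∀ e ∈ E, IsConj (X.φ a * X.φ e) (X.φ b * X.φ e)) →
      prof X.mul X.cl (E.map X.code) (X.code a) = prof X.mul X.cl (E.map X.code) (X.code b) := by
    intro a b ha hb hae hbe h
    refine List.map_congr_left fun x hx => ?_
    obtain ⟨e, he, rfl⟩ := List.mem_map.1 hx
    have := h e he
    rw [← map_mul, ← map_mul] at this
    rw [← X.code_mul, ← X.code_mul]
    exact X.sep (a * e) (b * e) (hcl e a he (hae e he) ha) (hcl e b he (hbe e he) hb) this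
  have key : Subgroup.centralizer (X.φ '' {e : M | e ∈ E}) ≤ H := by
    refine X.frame.step _ (X.mem c) (X.conj_a0 _) (X.mem d) (X.conj_a0 _) ?_ ?_ ?_ ?_
    · rintro _ ⟨e, he, rfl⟩; exact (hcE e he).map X.φ
    · rintro _ ⟨e, he, rfl⟩; exact (hdE e he).map X.φ
    · by_contra hno
      push Not at hno
      exact hne (hprof c d hc2 hd2 hcE hdE fun e he => hno _ ⟨e, he, rfl⟩)
    intro j hjH hjo hjd hjE hjα hjdα hor
    obtain ⟨a, rfl⟩ := X.exists_pre hjH
    have ha2 := X.mul_self hjo
    have ha1 : a ≠ 1 := fun e => by rw [e, map_one, orderOf_one] at hjo; omega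
    have had : Commute a d := X.commute_iff.1 hjd
    have haE : ∀ e ∈ E, Commute a e := fun e he => X.commute_iff.1 (hjE _ ⟨e, he, rfl⟩)
    have hadd : a * d * (a * d) = 1 := by
      rw [mul_assoc, ← mul_assoc d a, ← had.eq, mul_assoc a d, hd2, mul_one, ha2]
    have hmem : X.code a ∈ Ld := hLd ▸ X.mem_side q ha2 ha1 had haE
      (fun e => hjα ((X.cls a ha2).1 e))
      ((X.cls (a * d) hadd).2 (by rw [map_mul]; exact hjdα))
    rcases hck _ hmem with hres | hno
    · -- resolved
      left
      intro g hg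
      have hga : ∀ e ∈ a :: E, Commute g (X.φ e) := by
        intro e he
        refine (Subgroup.mem_centralizer_iff.1 hg _ ?_).symm
        rcases List.mem_cons.1 he with h1 | h1
        · exact Set.mem_insert_iff.2 (Or.inl (by rw [h1]))
        · exact Set.mem_insert_iff.2 (Or.inr ⟨e, h1, rfl⟩)
      rw [resolved] at hres
      simp only [Bool.or_eq_true, List.any_eq_true, List.all_eq_true, decide_eq_true_eq] at hres
      rcases hres with ⟨x, hx, hxk⟩ | ⟨w', hw', hwall⟩
      · rw [← List.map_cons] at hx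
        obtain ⟨b, hb, hb2, hgb⟩ := X.span_sq (a :: E) (List.forall_mem_cons.2 ⟨ha2, hsq⟩) (by
          intro e he f hf
          rcases List.mem_cons.1 he with rfl | h1 <;> rcases List.mem_cons.1 hf with rfl | h2
          · exact Commute.refl _
          · exact haE f h2
          · exact (haE e h1).symm
          · exact hcomm e h1 f h2) x hx
        exact X.frame.mem_of_commute (X.mem b) ((X.cls b hb2).1 (hb ▸ hxk)) (hgb g hga)
      · obtain ⟨w, hw, rfl⟩ := List.mem_map.1 hw'
        have h1 : (X.φ w.1)⁻¹ * g * X.φ w.1 ∈ H := by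
          refine hW w hw _ fun f hf => ?_
          have hsp := hwall _ (List.mem_map_of_mem hf)
          rw [← List.map_cons] at hsp
          obtain ⟨b, hb, hgb, -⟩ := X.mem_span (a :: E) _ hsp
          have hbe : b = w.1 * f * w.1⁻¹ := X.code_inj (by rw [hb, X.code_mul, X.code_mul])
          have hgb' := hgb g hga
          rw [hbe, map_mul, map_mul, map_inv] at hgb'
          have := hgb'.map (MulAut.conj (X.φ w.1)⁻¹).toMonoidHom
          simpa [mul_assoc] using this
        have := mul_mem (mul_mem (X.mem w.1) h1) (inv_mem (X.mem w.1))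
        simpa [mul_assoc] using this
    · -- no partner
      right
      intro j' hj'H hj'o hj'c hj'E hjj' hj'cα hje hcase
      obtain ⟨b, rfl⟩ := X.exists_pre hj'H
      have hb2 := X.mul_self hj'o
      have hb1 : b ≠ 1 := fun e => by rw [e, map_one, orderOf_one] at hj'o; omega
      have hbc : Commute b c := X.commute_iff.1 hj'c
      have hbE : ∀ e ∈ E, Commute b e := fun e he => X.commute_iff.1 (hj'E _ ⟨e, he, rfl⟩)
      have hbcc : b * c * (b * c) = 1 := by
        rw [mul_assoc, ← mul_assoc c b, ← hbc.eq, mul_assoc b c, hc2, mul_one, hb2]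
      have hmem' : X.code b ∈ Lc := hLc ▸ X.mem_side p hb2 hb1 hbc hbE
        (fun e => hjα (((X.cls b hb2).1 e).trans hjj'.symm))
        ((X.cls (b * c) hbcc).2 (by rw [map_mul]; exact hj'cα))
      have h1 : prof X.mul X.cl (E.map X.code) (X.code a) = prof X.mul X.cl (E.map X.code) (X.code b) :=
        hprof a b ha2 hb2 haE hbE fun e he => hje _ ⟨e, he, rfl⟩
      have hade : ∀ e ∈ E, Commute (a * d) e := fun e he => (haE e he).mul_left (hdE e he)
      have hbce : ∀ e ∈ E, Commute (b * c) e := fun e he => (hbE e he).mul_left (hcE e he)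
      have hm : matched X.mul X.cl (E.map X.code) Lc (X.code c) (X.code d) (X.code a) = true := by
        rw [matched]
        simp only [List.any_eq_true, Bool.and_eq_true, Bool.or_eq_true, decide_eq_true_eq]
        refine ⟨_, hmem', (X.sep a b ha2 hb2 hjj').symm, h1.symm, ?_⟩
        rw [← X.code_mul, ← X.code_mul]
        rcases hcase with h | h
        · exact Or.inl ⟨hprof (a * d) d hadd hd2 hade hdE fun e he => by
            rw [map_mul]; exact (h _ ⟨e, he, rfl⟩).1,
            hprof (b * c) c hbcc hc2 hbce hcE fun e he => by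
            rw [map_mul]; exact (h _ ⟨e, he, rfl⟩).2⟩
        · exact Or.inr ⟨hprof (a * d) c hadd hc2 hade hcE fun e he => by
            rw [map_mul]; exact (h _ ⟨e, he, rfl⟩).1,
            hprof (b * c) d hbcc hd2 hbce hdE fun e he => by
            rw [map_mul]; exact (h _ ⟨e, he, rfl⟩).2⟩
      rw [hm] at hno
      exact Bool.noConfusion hno
  intro g hg
  refine key (Subgroup.mem_centralizer_iff.2 ?_)
  rintro _ ⟨e, he, rfl⟩
  exact (hg e he).symm.eq

/-- All classes of involutions good: the subgroup is everything. -/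
theorem eq_top (reps : List M) (hreps : ∀ a : M, a * a = 1 → a ≠ 1 →
      X.cl (X.code a) = X.k0 ∨ ∃ r ∈ reps, ∃ p : M, p * r * p⁻¹ = a)
    (hgood : ∀ r ∈ reps, X.Good [r]) {w : M} (hw : w * w = 1) (hw1 : w ≠ 1)
    (hwk : X.cl (X.code w) ≠ X.k0) : H = ⊤ := by
  refine X.frame.eq_top (w := X.φ w) (invol_of_mul_self (by rw [← map_mul, hw, map_one])
    (fun e => hw1 (X.inj (by rw [e, map_one])))) (X.mem w) (fun h => hwk ((X.cls w hw).2 h))
    fun u huH hu g hg => ?_
  obtain ⟨a, rfl⟩ := X.exists_pre huH
  have ha2 := X.mul_self hu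
  have ha1 : a ≠ 1 := fun e => by rw [e, map_one, orderOf_one] at hu; omega
  have hga : Commute g (X.φ a) := Subgroup.mem_centralizer_singleton_iff.1 hg
  rcases hreps a ha2 ha1 with hk | ⟨r, hr, p, rfl⟩
  · exact X.frame.mem_of_commute (X.mem a) ((X.cls a ha2).1 hk) hga
  · have h1 : (X.φ p)⁻¹ * g * X.φ p ∈ H := by
      refine hgood r hr _ fun e he => ?_
      rw [List.mem_singleton] at he
      subst he
      rw [map_mul, map_mul, map_inv] at hga
      have := hga.map (MulAut.conj (X.φ p)⁻¹).toMonoidHom
      simpa [mul_assoc] using this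
    have := mul_mem (mul_mem (X.mem p) h1) (inv_mem (X.mem p))
    simpa [mul_assoc] using this

end Chart

end CfsgLib.Recog.Profile
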