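import Mathlib

/-!
The symplectic group of degree six over the field of two elements on the sixty-four vectors, an element
coded by the images of the six basis vectors.
-/

set_option autoImplicit false
set_option linter.unusedSectionVars false
set_option maxRecDepth 20000

namespace CfsgLib.Recog.Profile.SpBits

/-- The alternating form: the basis vectors `2 k` and `2 k + 1` are paired. -/
def form (v w : ℕ) : Bool :=
  let s := ((v &&& 0x15) &&& ((w >>> 1) &&& 0x15)) ^^^ (((v >>> 1) &&& 0x15) &&& (w &&& 0x15))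
  decide ((s % 2 + s / 4 % 2 + s / 16 % 2) % 2 = 1)

/-- The image of the `i`-th basis vector. -/
def row (x i : ℕ) : ℕ := x / 64 ^ i % 64

/-- The image of a vector. -/
def app (x v : ℕ) : ℕ :=
  ((((((if v % 2 = 1 then row x 0 else 0) ^^^ (if v / 2 % 2 = 1 then row x 1 else 0))
    ^^^ (if v / 4 % 2 = 1 then row x 2 else 0)) ^^^ (if v / 8 % 2 = 1 then row x 3 else 0))
    ^^^ (if v / 16 % 2 = 1 then row x 4 else 0)) ^^^ (if v / 32 % 2 = 1 then row x 5 else 0))

/-- The code with the given images of the basis. -/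
def enc (f : ℕ → ℕ) : ℕ :=
  f 1 + f 2 * 64 + f 4 * 4096 + f 8 * 262144 + f 16 * 16777216 + f 32 * 1073741824

/-- Composition of codes. -/
def bmul (x y : ℕ) : ℕ := enc fun b => app x (app y b)

theorem app_lt (x v : ℕ) : app x v < 64 := by
  have hr : ∀ (b : Prop) [Decidable b] (i : ℕ), (if b then row x i else 0) < 2 ^ 6 := fun b _ i => by
    split_ifs
    · exact Nat.mod_lt _ (by norm_num)
    · norm_num
  exact Nat.xor_lt_two_pow (Nat.xor_lt_two_pow (Nat.xor_lt_two_pow (Nat.xor_lt_two_pow
    (Nat.xor_lt_two_pow (hr _ 0) (hr _ 1)) (hr _ 2)) (hr _ 3)) (hr _ 4)) (hr _ 5)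

theorem row_enc (f : ℕ → ℕ) (hf : ∀ b, f b < 64) :
    row (enc f) 0 = f 1 ∧ row (enc f) 1 = f 2 ∧ row (enc f) 2 = f 4 ∧ row (enc f) 3 = f 8 ∧
      row (enc f) 4 = f 16 ∧ row (enc f) 5 = f 32 := by
  have h1 := hf 1; have h2 := hf 2; have h4 := hf 4; have h8 := hf 8; have h16 := hf 16; have h32 := hf 32
  simp only [row, enc]
  norm_num
  omega

theorem app_enc_basis (f : ℕ → ℕ) (hf : ∀ b, f b < 64) :
    ∀ b ∈ [1, 2, 4, 8, 16, 32], app (enc f) b = f b := by
  obtain ⟨h0, h1, h2, h3, h4, h5⟩ := row_enc f hf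
  intro b hb
  fin_cases hb <;> simp [app, h0, h1, h2, h3, h4, h5]

theorem app_zero (x : ℕ) : app x 0 = 0 := by simp [app]

theorem app_xor (x : ℕ) {v w : ℕ} (hv : v < 64) (hw : w < 64) : app x (v ^^^ w) = app x v ^^^ app x w := by
  have hbit : ∀ i, (v ^^^ w) / 2 ^ i % 2 = 1 ↔ ¬ (v / 2 ^ i % 2 = 1 ↔ w / 2 ^ i % 2 = 1) := by
    intro i
    have h := Nat.testBit_xor v w i
    simp only [Nat.testBit_eq_decide_div_mod_eq] at h
    by_cases a : v / 2 ^ i % 2 = 1 <;> by_cases b : w / 2 ^ i % 2 = 1 <;> simp [a, b] at h <;> simp [a, b, h]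
  have key : ∀ i r, (if (v ^^^ w) / 2 ^ i % 2 = 1 then r else 0) =
      (if v / 2 ^ i % 2 = 1 then r else 0) ^^^ (if w / 2 ^ i % 2 = 1 then r else 0) := by
    intro i r
    rw [if_congr (hbit i) rfl rfl]
    by_cases a : v / 2 ^ i % 2 = 1 <;> by_cases b : w / 2 ^ i % 2 = 1 <;> simp [a, b]
  have h0 := key 0 (row x 0); have h1 := key 1 (row x 1); have h2 := key 2 (row x 2)
  have h3 := key 3 (row x 3); have h4 := key 4 (row x 4); have h5 := key 5 (row x 5)
  simp only [pow_zero, pow_one, Nat.div_one, Nat.reducePow] at h0 h1 h2 h3 h4 h5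
  simp only [app, h0, h1, h2, h3, h4, h5]
  ac_rfl

/-- Every vector is zero, a basis vector, or the sum of a basis vector and a smaller one. -/
theorem split : ∀ v : Fin 64, v.val = 0 ∨ ∃ b ∈ ([1, 2, 4, 8, 16, 32] : List ℕ), b ≤ v.val ∧ b ^^^ (v.val - b) = v.val := by
  decide +kernel

theorem induction64 {p : ℕ → Prop} (h0 : p 0) (hb : ∀ b ∈ ([1, 2, 4, 8, 16, 32] : List ℕ), p b)
    (hx : ∀ v < 64, ∀ w < 64, p v → p w → p (v ^^^ w)) : ∀ v < 64, p v := by
  intro v
  induction v using Nat.strong_induction_on with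
  | _ v ih =>
    intro hv
    rcases split ⟨v, hv⟩ with e | ⟨b, hb', hle, e⟩
    · exact (show v = 0 from e) ▸ h0
    · replace e : b ^^^ (v - b) = v := e
      replace hle : b ≤ v := hle
      have hpos : 1 ≤ b := by fin_cases hb' <;> norm_num
      have key := hx b (by fin_cases hb' <;> norm_num) (v - b) (by omega) (hb b hb') (ih (v - b) (by omega) (by omega))
      rwa [e] at key

theorem app_one : ∀ v < 64, app (enc id) v = v := by
  have h : ∀ v : Fin 64, app (enc id) v.val = v.val := by decide +kernel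
  exact fun v hv => h ⟨v, hv⟩

theorem form_basis : ∀ u : Fin 64, ∀ b ∈ ([1, 2, 4, 8, 16, 32] : List ℕ), ∀ w : Fin 64,
    form (u.val ^^^ b) w.val = (form u.val w.val != form b w.val) := by decide +kernel

theorem form_facts : (∀ u v w : Fin 64, form (u.val ^^^ v.val) w.val = (form u.val w.val != form v.val w.val)) ∧
    ∀ v w : Fin 64, form v.val w.val = form w.val v.val := by
  refine ⟨fun u v w => ?_, by decide +kernel⟩
  refine induction64 (p := fun a => ∀ u < 64, form (u ^^^ a) w.val = (form u w.val != form a w.val)) ?_ ?_ ?_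
    v.val v.2 u.val u.2
  · intro u _
    rw [Nat.xor_zero, (show form 0 w.val = false by simp [form])]
    simp
  · exact fun b hb u hu => form_basis ⟨u, hu⟩ b hb w
  · intro a ha b hb h1 h2 u hu
    rw [← Nat.xor_assoc, h2 (u ^^^ a) (Nat.xor_lt_two_pow (n := 6) hu ha), h1 u hu, h2 a ha]
    cases form u w.val <;> cases form a w.val <;> cases form b w.val <;> rfl

/-- Linear and preserving the form. -/
def Sp : Subgroup (Equiv.Perm (Fin 64)) where
  carrier := {p | (∀ v w u : Fin 64, v.val ^^^ w.val = u.val → (p v).val ^^^ (p w).val = (p u).val) ∧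
    ∀ v w : Fin 64, form (p v).val (p w).val = form v.val w.val}
  one_mem' := ⟨fun _ _ _ h => h, fun _ _ => rfl⟩
  mul_mem' := fun {p q} hp hq => ⟨fun v w u h => hp.1 _ _ _ (hq.1 v w u h),
    fun v w => (hp.2 (q v) (q w)).trans (hq.2 v w)⟩
  inv_mem' := fun {p} hp => by
    have happ : ∀ x, p (p⁻¹ x) = x := p.apply_symm_apply
    have hinv : ∀ x, p⁻¹ (p x) = x := p.symm_apply_apply
    refine ⟨fun v w u h => ?_, fun v w => ?_⟩
    · let z : Fin 64 := ⟨(p⁻¹ v).val ^^^ (p⁻¹ w).val, Nat.xor_lt_two_pow (n := 6) (p⁻¹ v).2 (p⁻¹ w).2⟩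
      have hz := hp.1 (p⁻¹ v) (p⁻¹ w) z rfl
      rw [happ, happ, h] at hz
      rw [show u = p z from Fin.ext hz, hinv]
    · have := hp.2 (p⁻¹ v) (p⁻¹ w)
      rw [happ, happ] at this
      exact this.symm

/-- The values on natural numbers. -/
def val (p : Sp) (v : ℕ) : ℕ := if h : v < 64 then ((p : Equiv.Perm (Fin 64)) ⟨v, h⟩).val else 0

theorem val_lt (p : Sp) (v : ℕ) : val p v < 64 := by
  unfold val
  split_ifs with h
  · exact ((p : Equiv.Perm (Fin 64)) ⟨v, h⟩).2
  · norm_num

theorem val_coe (p : Sp) (v : Fin 64) : val p v = ((p : Equiv.Perm (Fin 64)) v).val := by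
  rw [val, dif_pos v.2]

theorem val_xor (p : Sp) {v w : ℕ} (hv : v < 64) (hw : w < 64) :
    val p (v ^^^ w) = val p v ^^^ val p w := by
  have := p.2.1 ⟨v, hv⟩ ⟨w, hw⟩ ⟨v ^^^ w, Nat.xor_lt_two_pow (n := 6) hv hw⟩ rfl
  rw [val, dif_pos (Nat.xor_lt_two_pow (n := 6) hv hw), val, dif_pos hv, val, dif_pos hw]
  exact this.symm

theorem val_zero (p : Sp) : val p 0 = 0 := by
  have h := val_xor p (v := 0) (w := 0) (by norm_num) (by norm_num)
  rwa [Nat.xor_self, Nat.xor_self] at h

/-- The code of an element. -/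
def code (p : Sp) : ℕ := enc (val p)

theorem app_code (p : Sp) : ∀ v < 64, app (code p) v = val p v := by
  refine induction64 (by rw [app_zero, val_zero]) (fun b hb => app_enc_basis _ (val_lt p) b hb) ?_
  intro v hv w hw h1 h2
  rw [app_xor _ hv hw, val_xor p hv hw, h1, h2]

theorem code_inj : Function.Injective code := fun p q h =>
  Subtype.ext (Equiv.ext fun v => Fin.ext (by rw [← val_coe, ← val_coe, ← app_code p v v.2, h, app_code q v v.2]))

theorem code_mul (p q : Sp) : code (p * q) = bmul (code p) (code q) := by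
  have h : ∀ b < 64, val (p * q) b = app (code p) (app (code q) b) := fun b hb => by
    rw [app_code q b hb, app_code p _ (val_lt q b), show val (p * q) b = val (p * q) ((⟨b, hb⟩ : Fin 64) : ℕ) from rfl,
      val_coe, show val q b = val q ((⟨b, hb⟩ : Fin 64) : ℕ) from rfl, val_coe, val_coe]
    rfl
  unfold code bmul enc
  simp only [h 1 (by norm_num), h 2 (by norm_num), h 4 (by norm_num), h 8 (by norm_num), h 16 (by norm_num),
    h 32 (by norm_num), code, enc]

theorem code_one : code 1 = enc id := by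
  simp [code, enc, val]

/-- A code and the code of the inverse. -/
def okPair (x x' : ℕ) : Bool :=
  decide (bmul x x' = enc id) && (decide (bmul x' x = enc id) &&
    [1, 2, 4, 8, 16, 32].all fun b => [1, 2, 4, 8, 16, 32].all fun c =>
      decide (form (app x b) (app x c) = form b c))

theorem app_bmul {x x' : ℕ} (h : bmul x x' = enc id) : ∀ v < 64, app x (app x' v) = v := by
  refine induction64 (by rw [app_zero, app_zero]) (fun b hb => ?_) ?_
  · have hb64 : b < 64 := by fin_cases hb <;> norm_num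
    have := app_enc_basis (fun c => app x (app x' c)) (fun _ => app_lt _ _) b hb
    rw [show enc (fun c => app x (app x' c)) = bmul x x' from rfl, h, app_one b hb64] at this
    exact this.symm
  · intro v hv w hw h1 h2
    rw [app_xor _ hv hw, app_xor _ (app_lt _ _) (app_lt _ _), h1, h2]

/-- The element with a given code. -/
def ofCode (x x' : ℕ) : Sp :=
  if h : okPair x x' = true then
    ⟨⟨fun v => ⟨app x v, app_lt _ _⟩, fun v => ⟨app x' v, app_lt _ _⟩,
      fun v => Fin.ext (app_bmul (by
        simp only [okPair, Bool.and_eq_true, decide_eq_true_eq] at h; exact h.2.1) v v.2),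
      fun v => Fin.ext (app_bmul (by
        simp only [okPair, Bool.and_eq_true, decide_eq_true_eq] at h; exact h.1) v v.2)⟩, by
      simp only [okPair, Bool.and_eq_true, decide_eq_true_eq, List.all_eq_true] at h
      refine ⟨fun v w u e => ?_, fun v w => ?_⟩
      · show app x v ^^^ app x w = app x u
        rw [← app_xor x v.2 w.2, e]
      · show form (app x v) (app x w) = form v w
        obtain ⟨hlin, -⟩ := form_facts
        have hlin' : ∀ u < 64, ∀ v < 64, ∀ w < 64, form (u ^^^ v) w = (form u w != form v w) :=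
          fun u hu v hv w hw => hlin ⟨u, hu⟩ ⟨v, hv⟩ ⟨w, hw⟩
        have hsymm : ∀ v < 64, ∀ w < 64, form v w = form w v :=
          fun v hv w hw => form_facts.2 ⟨v, hv⟩ ⟨w, hw⟩
        have hz : ∀ w < 64, form 0 w = false := fun w hw => by
          have := hlin' 0 (by norm_num) 0 (by norm_num) w hw
          rw [Nat.xor_self] at this
          rw [this, bne_self_eq_false]
        refine induction64 (p := fun a => ∀ c < 64, form (app x a) (app x c) = form a c) ?_ ?_ ?_ v v.2 w w.2
        · intro c hc; rw [app_zero, hz _ hc, hz _ (app_lt _ _)]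
        · intro b hb
          have hb64 : b < 64 := by fin_cases hb <;> norm_num
          refine induction64 (p := fun c => form (app x b) (app x c) = form b c) ?_ ?_ ?_
          · rw [app_zero, hsymm _ (app_lt _ _) 0 (by norm_num), hz _ (app_lt _ _),
              hsymm b hb64 0 (by norm_num), hz b hb64]
          · exact fun c hc => h.2.2 b hb c hc
          · intro c hc d hd h1 h2
            have hcd : c ^^^ d < 64 := Nat.xor_lt_two_pow (n := 6) hc hd
            rw [app_xor _ hc hd, hsymm _ (app_lt _ _) _ (Nat.xor_lt_two_pow (n := 6) (app_lt _ _) (app_lt _ _)),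
              hsymm _ hb64 _ hcd, hlin' _ (app_lt _ _) _ (app_lt _ _) _ (app_lt _ _), hlin' _ hc _ hd _ hb64,
              hsymm _ (app_lt x c) _ (app_lt x b), hsymm _ (app_lt x d) _ (app_lt x b), h1, h2,
              hsymm c hc b hb64, hsymm d hd b hb64]
        · intro a ha b hb h1 h2 c hc
          rw [app_xor _ ha hb, hlin' _ (app_lt _ _) _ (app_lt _ _) _ (app_lt _ _), hlin' _ ha _ hb _ hc,
            h1 c hc, h2 c hc]⟩
  else 1

/-- The invariant of the classes of involutions. -/
def cls (x : ℕ) : ℕ :=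
  2 * ((List.range 64).filter fun v => decide (app x v = v)).length +
    if [1, 2, 4, 8, 16, 32].all (fun b => form b (app x b) == false) then 1 else 0

end CfsgLib.Recog.Profile.SpBits
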