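import Cfsg.Agent.Lib.Recog.Profile.Model
import Cfsg.Agent.Lib.Recog.Profile.Count
import Cfsg.Agent.Lib.Recog.Profile.SpBits

/-!
What has to be known of a symplectic subgroup of degree six over two elements to close on it.
-/

set_option autoImplicit false
set_option linter.unusedSectionVars false

namespace CfsgLib.Recog.Profile

open SpBits

/-- An element read from a pair of codes, the first code normalised. -/
def okCode (x x' : ℕ) : Bool := okPair x x' && decide (enc (app x) = x)

theorem code_ofCode {x x' : ℕ} (h : okCode x x' = true) : code (ofCode x x') = x := by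
  simp only [okCode, Bool.and_eq_true, decide_eq_true_eq] at h
  conv_rhs => rw [← h.2]
  rw [code, ofCode, dif_pos h.1]
  simp [enc, val]

theorem code_inv_ofCode {x x' : ℕ} (h : okCode x x' = true) (h' : enc (app x') = x') :
    code (ofCode x x')⁻¹ = x' := by
  simp only [okCode, Bool.and_eq_true, decide_eq_true_eq] at h
  conv_rhs => rw [← h']
  rw [code, ofCode, dif_pos h.1]
  simp [enc, val]

variable {G : Type*} [Group G] [Finite G]

/-- The hypotheses. -/
structure SpHyp (G : Type*) [Group G] [Finite G] (α : G) (a0 : ℕ) where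
  φ : Sp →* G
  inj : Function.Injective φ
  ok : okCode a0 a0 = true
  ne : a0 ≠ enc id
  a0_map : φ (ofCode a0 a0) = α
  cent : Subgroup.centralizer ({α} : Set G) ≤ φ.range
  sylow : ∃ S : Sylow 2 G, (S : Subgroup G) ≤ Subgroup.centralizer ({α} : Set G)
  sep : ∀ a b : Sp, a * a = 1 → b * b = 1 → IsConj (φ a) (φ b) → cls (code a) = cls (code b)
  count : ∃ s : Finset G, s.card ≤ 751 ∧ ∀ g : G, g * g = 1 → g ≠ 1 → Commute g α → g ∈ s

namespace SpHyp

variable {α : G} {a0 : ℕ} (D : SpHyp G α a0)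
include D

theorem a0_ne : ofCode a0 a0 ≠ 1 := fun e => D.ne (by rw [← code_ofCode D.ok, e, code_one])

theorem a0_sq : ofCode a0 a0 * ofCode a0 a0 = 1 := by
  have h := D.ok
  simp only [okCode, okPair, Bool.and_eq_true, decide_eq_true_eq] at h
  exact code_inj (by rw [code_mul, code_ofCode D.ok, code_one, h.1.1])

theorem orderOf_alpha : orderOf α = 2 := by
  rw [← D.a0_map, orderOf_injective D.φ D.inj]
  exact CfsgLib.Invol.invol_of_mul_self D.a0_sq D.a0_ne

/-- The complete list. -/
theorem complete (L : List ℕ) (hlen : 751 ≤ L.length) (hnd : L.Nodup)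
    (hok : ∀ x ∈ L, okCode x x = true ∧ x ≠ enc id ∧ bmul x a0 = bmul a0 x) (a : Sp) (ha : a * a = 1)
    (ha1 : a ≠ 1) (hc : Commute a (ofCode a0 a0)) : code a ∈ L := by
  classical
  obtain ⟨s, hs, hmem⟩ := D.count
  have hmap : (L.map fun x => ofCode x x).map code = L := by
    clear hlen hnd hmem hs
    induction L with
    | nil => rfl
    | cons x L ih =>
      rw [List.map_cons, List.map_cons, code_ofCode (hok x List.mem_cons_self).1,
        ih (fun y hy => hok y (List.mem_cons_of_mem _ hy))]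
  have := complete_of_count (M := Sp) code code_inj
    (fun b => b * b = 1 ∧ b ≠ 1 ∧ Commute b (ofCode a0 a0)) (fun b => D.φ b) s.toList
    (fun b hb => Finset.mem_toList.2 (hmem _ (by rw [← map_mul, hb.1, map_one])
      (fun e => hb.2.1 (D.inj (by rw [e, map_one]))) (by have := hb.2.2.map D.φ; rwa [D.a0_map] at this)))
    (fun b c _ _ e => D.inj e) (L.map fun x => ofCode x x)
    (fun b hb => by
      obtain ⟨x, hx, rfl⟩ := List.mem_map.1 hb
      obtain ⟨h1, h2, h3⟩ := hok x hx
      refine ⟨code_inj ?_, fun e => h2 (by rw [← code_ofCode h1, e, code_one]), code_inj ?_⟩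
      · have h := h1
        simp only [okCode, okPair, Bool.and_eq_true, decide_eq_true_eq] at h
        rw [code_mul, code_ofCode h1, code_one, h.1.1]
      · show code (ofCode x x * ofCode a0 a0) = code (ofCode a0 a0 * ofCode x x)
        rw [code_mul, code_mul, code_ofCode h1, code_ofCode D.ok, h3])
    (by rw [hmap]; exact hnd) (by rw [Finset.length_toList, List.length_map]; omega) a ⟨ha, ha1, hc⟩
  rwa [hmap] at this

/-- The classes are represented in the list. -/
theorem exists_rep (L : List ℕ) (hcomp : ∀ a : Sp, a * a = 1 → a ≠ 1 → Commute a (ofCode a0 a0) → code a ∈ L)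
    (reps : List Sp) (hreps : ∀ x ∈ L, ∃ r ∈ reps, ∃ p : Sp, code (p * r * p⁻¹) = x) (a : Sp)
    (ha : a * a = 1) (ha1 : a ≠ 1) : ∃ r ∈ reps, ∃ p : Sp, p * r * p⁻¹ = a := by
  haveI : Fact (Nat.Prime 2) := ⟨Nat.prime_two⟩
  obtain ⟨S, hS⟩ := D.sylow
  have hle : (S : Subgroup G) ≤ D.φ.range := hS.trans D.cent
  let T : Sylow 2 D.φ.range := S.subtype hle
  have hao : orderOf (⟨D.φ a, a, rfl⟩ : D.φ.range) = 2 := by
    rw [← Subgroup.orderOf_coe]
    show orderOf (D.φ a) = 2
    rw [orderOf_injective D.φ D.inj]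
    exact CfsgLib.Invol.invol_of_mul_self ha ha1
  obtain ⟨⟨_, c, rfl⟩, hc⟩ := CfsgLib.Invol.exists_conj_invol_mem_sylow T hao
  have hmem : D.φ c * D.φ a * (D.φ c)⁻¹ ∈ (S : Subgroup G) := hc
  have hcomm : Commute (c * a * c⁻¹) (ofCode a0 a0) := by
    have h1 := Subgroup.mem_centralizer_singleton_iff.1 (hS hmem)
    refine D.inj ?_
    simp only [map_mul, map_inv, D.a0_map]
    exact h1
  obtain ⟨r, hr, p, hp⟩ := hreps _ (hcomp (c * a * c⁻¹) (by
    rw [show c * a * c⁻¹ * (c * a * c⁻¹) = c * (a * a) * c⁻¹ by group, ha, mul_one, mul_inv_cancel])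
    (fun e => ha1 (by rw [show a = c⁻¹ * (c * a * c⁻¹) * c by group, e, mul_one, inv_mul_cancel])) hcomm)
  refine ⟨r, hr, c⁻¹ * p, ?_⟩
  have e := code_inj hp
  calc c⁻¹ * p * r * (c⁻¹ * p)⁻¹ = c⁻¹ * (p * r * p⁻¹) * c := by group
    _ = a := by rw [e]; group

/-- The chart. -/
def chart (L : List ℕ) (hlen : 751 ≤ L.length) (hnd : L.Nodup)
    (hok : ∀ x ∈ L, okCode x x = true ∧ x ≠ enc id ∧ bmul x a0 = bmul a0 x) (reps : List Sp)
    (hreps : ∀ x ∈ L, ∃ r ∈ reps, ∃ p : Sp, code (p * r * p⁻¹) = x)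
    (hone : ∀ r ∈ reps, cls (code r) = cls a0 → r = ofCode a0 a0) (h0 : cls (enc id) ≠ cls a0) :
    Chart G Sp D.φ.range α := by
  have hk : ∀ a : Sp, a * a = 1 → cls (code a) = cls a0 → ∃ p : Sp, p * ofCode a0 a0 * p⁻¹ = a := by
    intro a ha hcl
    have ha1 : a ≠ 1 := fun e => h0 (by rw [← code_one, ← e, hcl])
    obtain ⟨r, hr, p, hp⟩ := D.exists_rep L (D.complete L hlen hnd hok) reps hreps a ha ha1
    have hr2 : r * r = 1 := by
      rw [show r = p⁻¹ * a * p by rw [← hp]; group, show p⁻¹ * a * p * (p⁻¹ * a * p) = p⁻¹ * (a * a) * p by group,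
        ha, mul_one, inv_mul_cancel]
    have := D.sep r a hr2 ha (isConj_iff.2 ⟨D.φ p, by rw [← map_inv, ← map_mul, ← map_mul, hp]⟩)
    exact ⟨p, by rw [← hone r hr (this.trans hcl)]; exact hp⟩
  have hcls : ∀ a : Sp, a * a = 1 → (cls (code a) = cls a0 ↔ IsConj α (D.φ a)) := by
    intro a ha
    constructor
    · intro h
      obtain ⟨p, hp⟩ := hk a ha h
      refine isConj_iff.2 ⟨D.φ p, ?_⟩
      rw [← hp]
      simp only [map_mul, map_inv, D.a0_map]
    · intro h
      have := D.sep (ofCode a0 a0) a D.a0_sq ha (by rw [D.a0_map]; exact h)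
      rw [code_ofCode D.ok] at this
      exact this.symm
  exact
  { φ := D.φ
    inj := D.inj
    range := rfl
    frame := Frame.of_fusion D.orderOf_alpha D.cent (by
      rintro _ ⟨a, rfl⟩ hc
      have ho : orderOf (D.φ a) = 2 := by
        rw [CfsgLib.Invol.orderOf_eq_of_isConj hc, D.orderOf_alpha]
      have ha : a * a = 1 := D.inj (by rw [map_mul, CfsgLib.Invol.invol_mul_self ho, map_one])
      obtain ⟨p, hp⟩ := hk a ha ((hcls a ha).2 hc)
      refine ⟨D.φ p, ⟨p, rfl⟩, ?_⟩
      rw [← hp]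
      simp only [map_mul, map_inv, D.a0_map])
    code := code
    code_inj := code_inj
    mul := bmul
    code_mul := code_mul
    one := enc id
    code_one := code_one
    cl := cls
    k0 := cls a0
    sep := D.sep
    cls := hcls
    a0 := ofCode a0 a0
    a0_map := D.a0_map
    L := L
    complete := D.complete L hlen hnd hok }

end SpHyp

end CfsgLib.Recog.Profile
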